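import Cfsg.Agent.Lib.BlockStar.Weights
import Cfsg.Agent.Lib.Blk83.PairFusion
import Cfsg.Agent.Lib.Char.Conj
import Cfsg.Agent.Lib.Char.PowerMap
import Cfsg.Agent.Lib.BlockPrincipal.SmallDefect
import Cfsg.Agent.Lib.CharDeep.HallComplement
import Mathlib.Analysis.SpecialFunctions.Log.Basic

/-!
# Characters of a nilpotent block

When the fusion below a maximal pair `(P, e)` is inner, the star construction applied to a
character of height zero is a bijection from the irreducible characters of `P` onto the block.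
-/

set_option autoImplicit false

namespace CfsgLib.BlockStar

open Cfsg CfsgLib.Blocks CfsgLib.Blocks.Pairs CfsgLib.BlockReg Polynomial
open scoped Classical ComplexConjugate

universe u

theorem extendByZero_coe {G : Type u} [Group G] (P : Subgroup G) (θ : P → ℂ) (u : P) :
    extendByZero P θ (u : G) = θ u :=
  Subtype.val_injective.extend_apply θ 0 u

section Galois

variable {Q : Type u} [Group Q] [Fintype Q] {p : ℕ} {M : Ideal AlgInt}

/-- A positive generalized character of a `p`-group with average one and unit value at the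
identity is the constant one. -/
theorem eq_one_of_positive (hM : IsPModular p M) (hQ : IsPGroup p Q) {m : Q → ℂ}
    (hgen : IsGeneralizedCharacter Q m) (hreal : ∀ u, ∃ r : ℝ, 0 ≤ r ∧ m u = r)
    (hsum : ∑ u, m u = (Nat.card Q : ℂ)) (h1 : ¬ MemLocalIdeal M (m 1)) (u : Q) : m u = 1 := by
  haveI : Fact p.Prime := ⟨hM.1⟩
  obtain ⟨k, hk⟩ := IsPGroup.iff_card.1 hQ
  set n := Nat.card Q with hn
  have hn0 : 0 < n := Nat.card_pos
  haveI : NeZero n := ⟨hn0.ne'⟩
  let ζ := Complex.exp (2 * Real.pi * Complex.I / n)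
  have hζ : IsPrimitiveRoot ζ n := Complex.isPrimitiveRoot_exp n hn0.ne'
  choose r hr0 hr using hreal
  obtain ⟨c, d, hc, hd, hcd⟩ := hgen
  have hpoly : ∀ v : Q, ∃ R : ℤ[X], ∀ i : ℕ, m (v ^ i) = aeval (ζ ^ i) R := fun v => by
    obtain ⟨R₁, h₁⟩ := CfsgLib.CharPower.exists_poly_of_isCharacter hc v hn0 pow_card_eq_one' hζ
    obtain ⟨R₂, h₂⟩ := CfsgLib.CharPower.exists_poly_of_isCharacter hd v hn0 pow_card_eq_one' hζ
    exact ⟨R₁ - R₂, fun i => by rw [hcd, Pi.sub_apply, h₁, h₂, map_sub]⟩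
  choose R hR using hpoly
  have hcongr : ∀ (P : ℤ[X]), MemLocalIdeal M (aeval ζ P - aeval (1 : ℂ) P) := by
    intro P
    induction P using Polynomial.induction_on' with
    | add P P' hP hP' =>
      rw [map_add, map_add, add_sub_add_comm]
      exact memIdeal_add hM hP hP'
    | monomial i a =>
      rw [aeval_monomial, aeval_monomial, one_pow, mul_one, eq_intCast, ← mul_sub_one]
      refine memIdeal_mul_left hM (memRing_algInt hM (isIntegral_algebraMap (x := a))) ?_
      exact CfsgLib.SmallDefect.root_sub_one_memIdeal hM (k := k)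
        (by rw [← hk, ← pow_mul, mul_comm, pow_mul, hζ.pow_eq_one, one_pow])
  have hne : ∀ v, 0 < r v := by
    intro v
    refine lt_of_le_of_ne (hr0 v) fun h0 => h1 ?_
    have hv : m v = 0 := by rw [hr, ← h0, Complex.ofReal_zero]
    have h2 := hcongr (R v)
    have e1 := hR v 1
    have e0 := hR v 0
    rw [pow_one, pow_one] at e1
    rw [pow_zero, pow_zero] at e0
    rw [← e1, ← e0] at h2
    exact (memIdeal_iff_of_sub hM h2).1 (hv ▸ memIdeal_zero hM)
  set J := (Finset.range n).filter fun i => i.Coprime n with hJ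
  have hprod : ∀ v, (1 : ℝ) ≤ ∏ i ∈ J, r (v ^ i) := by
    intro v
    obtain ⟨z, hz⟩ := CfsgLib.BlockRank.prod_primitiveRoots_aeval_int hn0 hζ (R v)
    have h2 : ∏ i ∈ J, aeval (ζ ^ i) (R v) = ∏ w ∈ primitiveRoots n ℂ, aeval w (R v) := by
      refine Finset.prod_bij (fun i _ => ζ ^ i) (fun i hi => ?_) (fun i hi j hj h => ?_)
        (fun w hw => ?_) (fun i _ => rfl)
      · exact (mem_primitiveRoots hn0).mpr (hζ.pow_of_coprime i (Finset.mem_filter.mp hi).2)
      · exact hζ.pow_inj (Finset.mem_range.mp (Finset.mem_filter.mp hi).1)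
          (Finset.mem_range.mp (Finset.mem_filter.mp hj).1) h
      · have hw' := (mem_primitiveRoots hn0).mp hw
        obtain ⟨i, hi, hiw⟩ := hζ.eq_pow_of_pow_eq_one hw'.pow_eq_one
        exact ⟨i, Finset.mem_filter.mpr ⟨Finset.mem_range.mpr hi,
          (hζ.pow_iff_coprime hn0 i).mp (hiw ▸ hw')⟩, hiw⟩
    have h3 : ((∏ i ∈ J, r (v ^ i) : ℝ) : ℂ) = ((z : ℝ) : ℂ) := by
      rw [Complex.ofReal_prod, Complex.ofReal_intCast, ← hz, ← h2]
      exact Finset.prod_congr rfl fun i _ => by rw [← hr, hR]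
    have h4 : ∏ i ∈ J, r (v ^ i) = (z : ℝ) := Complex.ofReal_inj.1 h3
    have h5 : 0 < ∏ i ∈ J, r (v ^ i) := Finset.prod_pos fun i _ => hne _
    rw [h4] at h5 ⊢
    exact_mod_cast h5
  have hlow : ∀ v, (0 : ℝ) ≤ ∑ i ∈ J, (r (v ^ i) - 1) := by
    intro v
    have hlog := Real.log_nonneg (hprod v)
    rw [Real.log_prod (fun i _ => (hne _).ne')] at hlog
    exact hlog.trans (Finset.sum_le_sum fun i _ => Real.log_le_sub_one_of_pos (hne _))
  have htot : ∑ v, ∑ i ∈ J, (r (v ^ i) - 1) = 0 := by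
    rw [Finset.sum_comm]
    refine Finset.sum_eq_zero fun i hi => ?_
    have hco : (Nat.card Q).Coprime i := (Finset.mem_filter.mp hi).2.symm
    have h2 : ∑ v, r (v ^ i) = ∑ v, r v :=
      Fintype.sum_equiv (powCoprime hco) _ _ fun v => rfl
    rw [Finset.sum_sub_distrib, h2, Finset.sum_const, Finset.card_univ, nsmul_eq_mul, mul_one,
      ← Nat.card_eq_fintype_card, sub_eq_zero]
    have h3 : ((∑ v, r v : ℝ) : ℂ) = ((n : ℝ) : ℂ) := by
      rw [Complex.ofReal_sum, Complex.ofReal_natCast, ← hsum]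
      exact Finset.sum_congr rfl fun v _ => (hr v).symm
    exact Complex.ofReal_inj.1 h3
  have hzero := (Finset.sum_eq_zero_iff_of_nonneg fun v _ => hlow v).1 htot u (Finset.mem_univ _)
  have hlog := Real.log_nonneg (hprod u)
  rw [Real.log_prod (fun i _ => (hne _).ne')] at hlog
  have heq : ∀ i ∈ J, Real.log (r (u ^ i)) = r (u ^ i) - 1 := by
    refine (Finset.sum_eq_sum_iff_of_le fun i _ => Real.log_le_sub_one_of_pos (hne _)).1 ?_
    exact le_antisymm (Finset.sum_le_sum fun i _ => Real.log_le_sub_one_of_pos (hne _))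
      (hzero ▸ hlog)
  have hi : 1 % n ∈ J := by
    rw [hJ, Finset.mem_filter, Finset.mem_range]
    refine ⟨Nat.mod_lt _ hn0, ?_⟩
    rw [Nat.coprime_iff_gcd_eq_one, ← Nat.gcd_rec]
    exact Nat.gcd_one_right n
  have hu : u ^ (1 % n) = u := by
    rw [← pow_mod_natCard, Nat.mod_mod, pow_mod_natCard, pow_one]
  have h6 := heq _ hi
  rw [hu] at h6
  rw [hr, show r u = 1 from by
    by_contra hne1
    exact (Real.log_lt_sub_one_of_pos (hne u) hne1).ne h6, Complex.ofReal_one]

end Galois

variable {G : Type u} [Group G] [Fintype G] {M : Ideal AlgInt} [M.IsMaximal] {p : ℕ}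
  [Fact p.Prime] {P : Subgroup G} {e : MonoidAlgebra (ResField M) G}
  {B : Set (IrrCharacter G)}

theorem innerFusion_of_nilPairs (hM : IsPModular p M) (hB : IsPBlock M B)
    (hP : PairOf p (ebar hB) P e) (hno : NoExt p P e)
    (hnil : CfsgLib.Blk83.NilPairs p (ebar hB)) : InnerFusion p P e := by
  haveI := charP_resField (M := M) hM.1 hM.2.2
  intro u _ g f h1 h2
  obtain ⟨x, hx, hxe⟩ := CfsgLib.Blk83.inner_of_nilPairs hM hP hno hnil
    (φ := Cfsg.conjHom (Subgroup.zpowers u) g) ⟨g, fun _ => rfl, f, h1, h2⟩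
  exact ⟨x, hx, hxe ⟨u, Subgroup.mem_zpowers u⟩⟩

theorem stable_extendByZero (hfus : InnerFusion p P e) {θ : P → ℂ} (hθ : IsClassFunction P θ) :
    Stable p P e (extendByZero P θ) := by
  refine stable_of_innerFusion hfus fun x hx u hu => ?_
  have h1 := extendByZero_coe P θ (⟨x, hx⟩ * ⟨u, hu⟩ * ⟨x, hx⟩⁻¹)
  have h2 := extendByZero_coe P θ ⟨u, hu⟩
  rw [Subgroup.coe_mul, Subgroup.coe_mul, InvMemClass.coe_inv] at h1
  simp only at h1 h2
  rw [h1, h2, hθ]

theorem conj_fixes (he : IsPair p P e) {x : G} (hx : x ∈ P) :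
    conjSub x P = P ∧ conjA x e = e :=
  ⟨conjSub_eq_of_mem_normalizer (Subgroup.le_normalizer hx),
    conjA_eq_self_iff.2 fun y => suppIn_centralizer_conjFixed he.block.mem.supp x hx y⟩

theorem wt_conj (hM : IsPModular p M) (he : IsPair p P e) {χ ψ : G → ℂ}
    (hχ : IsClassFunction G χ) (hψ : IsClassFunction G ψ) {x u : G} (hx : x ∈ P) (hu : u ∈ P) :
    wt p M P e χ ψ (x * u * x⁻¹) = wt p M P e χ ψ u := by
  haveI := charP_resField (M := M) hM.1 hM.2.2
  obtain ⟨h1, h2⟩ := conj_fixes he hx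
  have hs := bel_spec hM he hu
  have hbel : bel p P e (x * u * x⁻¹) = conjA x (bel p P e u) := by
    refine bel_eq hM he ?_
    have h3 := hs.conj x
    rwa [conjSub_zpowers_eq, h1, h2] at h3
  have hb : bel p P e u ∈
      blks (F := ResField M) (Subgroup.centralizer (Subgroup.zpowers u : Set G)) :=
    mem_blks.2 (hs.pair_left he).block
  have hc : Subgroup.centralizer (Subgroup.zpowers (x * u * x⁻¹) : Set G) =
      conjSub x (Subgroup.centralizer (Subgroup.zpowers u : Set G)) := by
    rw [← conjSub_zpowers_eq, centralizer_conjSub]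
  have hi : P ⊓ Subgroup.centralizer (Subgroup.zpowers (x * u * x⁻¹) : Set G) =
      conjSub x (P ⊓ Subgroup.centralizer (Subgroup.zpowers u : Set G)) := by
    rw [hc, conjSub, conjSub, Subgroup.map_inf _ _ _ (MulAut.conj x).injective]
    exact congrArg₂ _ h1.symm rfl
  rw [wt, wt, hbel, secSum_conj hM hχ hψ x u hb, hi, hc, card_map_conj, card_map_conj]

theorem exists_isGeneralizedCharacter_wt (hM : IsPModular p M) (hB : IsPBlock M B)
    (hP : PairOf p (ebar hB) P e) (hno : NoExt p P e) (hfus : InnerFusion p P e)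
    {χ ψ : IrrCharacter G} (hχ : χ ∈ B) (hψ : ψ ∈ B) :
    IsGeneralizedCharacter P (fun u : P => wt p M P e (χ : G → ℂ) (ψ : G → ℂ) u) := by
  have hcl := CfsgLib.Char.IsIrrCharacter.isClassFunction χ.2
  have hcl' := CfsgLib.Char.IsIrrCharacter.isClassFunction ψ.2
  have hW : IsClassFunction P (fun u : P => wt p M P e (χ : G → ℂ) (ψ : G → ℂ) u) := fun u x => by
    simpa using wt_conj hM hP.pair hcl hcl' x.2 u.2
  refine isGeneralizedCharacter_of_inner hW fun lam => ?_
  let θ : P → ℂ := fun u => conj ((lam : P → ℂ) u)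
  have hθ : IsIrrCharacter P θ := CfsgLib.Char.IsIrrCharacter.conj_apply' lam.2
  have hst := stable_extendByZero (e := e) hfus (CfsgLib.Char.IsIrrCharacter.isClassFunction hθ)
  have h := classInner_star_star hM hP.pair hfus hst (η' := fun _ => 1)
    (fun _ _ _ _ _ _ => rfl) hcl hcl'
  rw [star_one hM hB hP hno hψ] at h
  obtain ⟨n, hn⟩ := exists_int_classInner_gen (star_isGeneralizedCharacter hM hB hP hno hst (by
      simp only [extendByZero_coe]
      exact CfsgLib.Char.IsIrrCharacter.isGeneralizedCharacter hθ) hχ)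
    (CfsgLib.Char.IsIrrCharacter.isGeneralizedCharacter ψ.2)
  refine ⟨n, ?_⟩
  rw [← hn, h, classInner]
  congr 1
  exact Finset.sum_congr rfl fun u _ => by simp [extendByZero_coe, θ]; ring

theorem bel_one (hM : IsPModular p M) (hB : IsPBlock M B) (hP : PairOf p (ebar hB) P e) :
    bel p P e 1 = ebar hB := by
  haveI := charP_resField (M := M) hM.1 hM.2.2
  have hs := bel_spec hM hP.pair P.one_mem
  have hf := (SLE.pairOf_iff hs).1 hP
  have hC : Subgroup.centralizer (Subgroup.zpowers (1 : G) : Set G) = ⊤ := by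
    rw [centralizer_zpowers_eq_singleton]
    exact (Subgroup.eq_top_iff' _).2 fun x => Subgroup.mem_centralizer_singleton_iff.2 (by simp)
  have h1 := hf.br
  rw [trunc_eq_self (fun x hx => absurd (hC ▸ Subgroup.mem_top x) hx)] at h1
  exact ((isBlockIdem_ebar hB).eq_of_mul_ne_zero (hC ▸ hf.pair.block)
    (by rw [h1]; exact hf.pair.block.ne_zero)).symm

theorem wt_one (hM : IsPModular p M) (hB : IsPBlock M B) (hP : PairOf p (ebar hB) P e)
    {χ ψ : IrrCharacter G} (hχ : χ ∈ B) (hψ : ψ ∈ B) :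
    wt p M P e (χ : G → ℂ) (ψ : G → ℂ) 1 =
      (Nat.card P : ℂ) * (Nat.card G : ℂ)⁻¹ *
        CfsgLib.BlockRank.regPair p (χ : G → ℂ) (ψ : G → ℂ) := by
  haveI := charP_resField (M := M) hM.1 hM.2.2
  have hC : Subgroup.centralizer (Subgroup.zpowers (1 : G) : Set G) = ⊤ := by
    rw [centralizer_zpowers_eq_singleton]
    exact (Subgroup.eq_top_iff' _).2 fun x => Subgroup.mem_centralizer_singleton_iff.2 (by simp)
  rw [wt, bel_one hM hB hP, hC, inf_top_eq, Subgroup.card_top, secSum]
  congr 1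
  have hreg : ∀ h : G, pp p h = 1 ↔ IsPRegular p h := fun h => by
    constructor
    · intro hp1
      obtain ⟨y, hy, -, -, hr⟩ := isPPart_pp (p := p) h
      rw [hp1, one_mul] at hy
      exact hy ▸ hr
    · intro hr
      exact pp_eq ⟨h, one_mul h, Commute.one_left h, ⟨0, by simp⟩, hr⟩
  refine Finset.sum_congr ?_ fun h hh => ?_
  · ext h
    simp [CfsgLib.BlockRank.regSet, hreg]
  · have e1 : ∀ {θ : IrrCharacter G}, θ ∈ B → val M (θ : G → ℂ) h (ebar hB) = (θ : G → ℂ) h := by
      intro θ hθ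
      have h2 := val_blockMul hM hB hθ (h := h) (one_mem _) (one_mul _)
      rw [mul_one, val_one hM (CfsgLib.Char.IsIrrCharacter.isClassFunction θ.2)] at h2
      exact h2
    rw [e1 hχ, e1 hψ]

theorem regPair_ne_zero (hM : IsPModular p M) (hB : IsPBlock M B) {χ ψ : IrrCharacter G}
    (hχ : χ ∈ B) (hψ : ψ ∈ B)
    (hmin : (charDegree (χ : G → ℂ)).factorization p = minExp p B) :
    CfsgLib.BlockRank.regPair p (χ : G → ℂ) (ψ : G → ℂ) ≠ 0 := by
  intro h0
  apply rInner_not_memIdeal hM hB hχ hψ hmin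
  rw [rInner, CfsgLib.BlockRank.classInner_tilde_eq, h0, mul_zero, mul_zero, zero_div]
  exact memIdeal_zero hM

theorem wt_one_not_memIdeal (hM : IsPModular p M) (hB : IsPBlock M B)
    (hP : PairOf p (ebar hB) P e) (hno : NoExt p P e) {χ : IrrCharacter G} (hχ : χ ∈ B)
    (hmin : (charDegree (χ : G → ℂ)).factorization p = minExp p B) :
    ¬ MemLocalIdeal M (wt p M P e (χ : G → ℂ) (χ : G → ℂ) 1) := by
  haveI := charP_resField (M := M) hM.1 hM.2.2
  have hp : p.Prime := Fact.out
  rw [wt_one hM hB hP hχ hχ]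
  have hD := (isDefectGroup_iff_maxR hM hB).2 (maxR_of_noExt hP hno)
  rw [card_defectGroup hM hB hD]
  obtain ⟨hu, hu'⟩ := natCast_div_unit hM (deg_pos χ).ne' (pow_ne_zero (minExp p B) hp.ne_zero)
    (by rw [hp.factorization_pow, Finsupp.single_eq_same, hmin])
  have hle : minExp p B ≤ (Nat.card G).factorization p := by
    rw [← hmin]
    exact (Nat.factorization_le_iff_dvd (deg_pos χ).ne' Nat.card_pos.ne').2
      (deg_dvd_card χ) p
  intro hmem
  refine not_memIdeal_mul hM (rInner_memRing hM χ χ) hu (rInner_not_memIdeal hM hB hχ hχ hmin) hu' ?_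
  convert hmem using 1
  rw [rInner, CfsgLib.BlockRank.classInner_tilde_eq, deg_cast, blockDefect_eq]
  have hsplit : ((p ^ (Nat.card G).factorization p : ℕ) : ℂ) =
      ((p ^ ((Nat.card G).factorization p - minExp p B) : ℕ) : ℂ) * ((p ^ minExp p B : ℕ) : ℂ) := by
    rw [← Nat.cast_mul, ← pow_add, Nat.sub_add_cancel hle]
  rw [hsplit]
  have h0 : (χ : G → ℂ) 1 ≠ 0 := CfsgLib.Char.IsIrrCharacter.apply_one_ne_zero χ.2
  have hp0 : ((p ^ minExp p B : ℕ) : ℂ) ≠ 0 := Nat.cast_ne_zero.2 (pow_ne_zero _ hp.ne_zero)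
  field_simp

theorem wt_eq_one (hM : IsPModular p M) (hB : IsPBlock M B) (hP : PairOf p (ebar hB) P e)
    (hno : NoExt p P e) (hfus : InnerFusion p P e) {χ : IrrCharacter G} (hχ : χ ∈ B)
    (hmin : (charDegree (χ : G → ℂ)).factorization p = minExp p B) (u : P) :
    wt p M P e (χ : G → ℂ) (χ : G → ℂ) u = 1 := by
  have hcl := CfsgLib.Char.IsIrrCharacter.isClassFunction χ.2
  refine eq_one_of_positive (m := fun u : P => wt p M P e (χ : G → ℂ) (χ : G → ℂ) u) hM
    hP.pair.pgroup (exists_isGeneralizedCharacter_wt hM hB hP hno hfus hχ hχ) (fun v => ?_) ?_ ?_ u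
  · refine ⟨(Nat.card (P ⊓ Subgroup.centralizer (Subgroup.zpowers (v : G) : Set G) : Subgroup G) : ℝ) *
      (Nat.card (Subgroup.centralizer (Subgroup.zpowers (v : G) : Set G)) : ℝ)⁻¹ *
      ∑ h ∈ Finset.univ.filter (fun h => pp p h = (v : G)),
        Complex.normSq (val M (χ : G → ℂ) h (bel p P e v)), ?_, ?_⟩
    · exact mul_nonneg (by positivity) (Finset.sum_nonneg fun h _ => Complex.normSq_nonneg _)
    · simp only [wt, secSum]
      push_cast
      congr 1
      exact Finset.sum_congr (by ext; simp) fun h _ => Complex.mul_conj _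
  · have h := classInner_star_star hM hP.pair hfus (η := fun _ => 1) (η' := fun _ => 1)
      (fun _ _ _ _ _ _ => rfl) (fun _ _ _ _ _ _ => rfl) hcl hcl
    rw [star_one hM hB hP hno hχ, CfsgLib.Char.classInner_irr_self χ.2,
      eq_inv_mul_iff_mul_eq₀ (Nat.cast_ne_zero.2 Nat.card_pos.ne'), mul_one] at h
    simpa using h.symm
  · exact wt_one_not_memIdeal hM hB hP hno hχ hmin

theorem charDegree_eq_mul {lam : P → ℂ} (hlam : IsIrrCharacter P lam) {χ ξ : IrrCharacter G}
    (h : (ξ : G → ℂ) 1 = lam 1 * (χ : G → ℂ) 1) :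
    charDegree (ξ : G → ℂ) = charDegree lam * charDegree (χ : G → ℂ) := by
  have h1 : ((charDegree (ξ : G → ℂ) : ℂ)) =
      (charDegree lam : ℂ) * (charDegree (χ : G → ℂ) : ℂ) := by
    rw [deg_cast, deg_cast, deg_cast ⟨lam, hlam⟩, h]
  exact_mod_cast h1

/-- **The characters of a nilpotent block.** -/
theorem exists_equiv_of_innerFusion (hM : IsPModular p M) (hB : IsPBlock M B)
    (hP : PairOf p (ebar hB) P e) (hno : NoExt p P e) (hfus : InnerFusion p P e)
    {χ₀ : IrrCharacter G} (hχ₀ : χ₀ ∈ B)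
    (hmin : (charDegree (χ₀ : G → ℂ)).factorization p = minExp p B) :
    ∃ Φ : IrrCharacter P ≃ B,
      (∀ lam : IrrCharacter P, ((Φ lam : IrrCharacter G) : G → ℂ) =
        star p M P e (extendByZero P (lam : P → ℂ)) (χ₀ : G → ℂ)) ∧
      (∀ (lam : IrrCharacter P) (h : G), IsPRegular p h →
        ((Φ lam : IrrCharacter G) : G → ℂ) h = (lam : P → ℂ) 1 * (χ₀ : G → ℂ) h) := by
  haveI := charP_resField (M := M) hM.1 hM.2.2
  have hcl := CfsgLib.Char.IsIrrCharacter.isClassFunction χ₀.2
  let F : IrrCharacter P → G → ℂ := fun lam =>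
    star p M P e (extendByZero P (lam : P → ℂ)) (χ₀ : G → ℂ)
  have hst : ∀ lam : IrrCharacter P, Stable p P e (extendByZero P (lam : P → ℂ)) := fun lam =>
    stable_extendByZero hfus (CfsgLib.Char.IsIrrCharacter.isClassFunction lam.2)
  have hinner : ∀ lam mu : IrrCharacter P,
      classInner (F lam) (F mu) = classInner (lam : P → ℂ) (mu : P → ℂ) := by
    intro lam mu
    rw [classInner_star_star hM hP.pair hfus (hst lam) (hst mu) hcl hcl, classInner]
    congr 1
    exact Finset.sum_congr rfl fun u _ => by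
      rw [wt_eq_one hM hB hP hno hfus hχ₀ hmin u, mul_one, extendByZero_coe, extendByZero_coe]
  have hone : ∀ lam : IrrCharacter P, ∀ h : G, IsPRegular p h →
      F lam h = (lam : P → ℂ) 1 * (χ₀ : G → ℂ) h := by
    intro lam h hh
    simp only [F]
    rw [star_regular hM hB hP (hst lam) hχ₀ hh]
    congr 1
    exact extendByZero_coe P (lam : P → ℂ) 1
  have h1reg : IsPRegular p (1 : G) := by
    unfold IsPRegular
    rw [orderOf_one, Nat.dvd_one]
    exact (Fact.out : p.Prime).ne_one
  have hirr : ∀ lam : IrrCharacter P, IsIrrCharacter G (F lam) := by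
    intro lam
    refine CfsgLib.CharDeep.HallCompl.isIrr_of_norm_one (star_isGeneralizedCharacter hM hB hP hno (hst lam) (by
      simp only [extendByZero_coe]
      exact CfsgLib.Char.IsIrrCharacter.isGeneralizedCharacter lam.2) hχ₀) ?_
      (d := charDegree (lam : P → ℂ) * charDegree (χ₀ : G → ℂ)) ?_
    · rw [hinner, CfsgLib.Char.classInner_irr_self lam.2]
    · rw [hone lam 1 h1reg, Nat.cast_mul, deg_cast, deg_cast]
  have hmemB : ∀ lam : IrrCharacter P, (⟨F lam, hirr lam⟩ : IrrCharacter G) ∈ B := by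
    intro lam
    by_contra hcon
    have h0 := classInner_star_eq_zero hM hB hP (η := extendByZero P (lam : P → ℂ)) hχ₀ hcon
    exact one_ne_zero ((CfsgLib.Char.classInner_irr_self (hirr lam)).symm.trans h0)
  have hinj : Function.Injective fun lam : IrrCharacter P => (⟨_, hmemB lam⟩ : B) := by
    intro lam mu hlm
    have hF : F lam = F mu := congrArg (fun x : B => ((x : IrrCharacter G) : G → ℂ)) hlm
    by_contra hne
    have h0 := hinner lam mu
    rw [hF, CfsgLib.Char.classInner_irr_self (hirr mu),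
      CfsgLib.Char.classInner_irr_of_ne lam.2 mu.2 fun h => hne (Subtype.ext h)] at h0
    exact one_ne_zero h0
  have hsurj : Function.Surjective fun lam : IrrCharacter P => (⟨_, hmemB lam⟩ : B) := by
    rintro ⟨ψ, hψ⟩
    by_contra hcon
    push Not at hcon
    have hzero : ∀ lam : IrrCharacter P,
        classInner (F lam) (ψ : G → ℂ) = 0 := fun lam =>
      CfsgLib.Char.classInner_irr_of_ne (hirr lam) ψ.2 fun h => hcon lam (Subtype.ext (Subtype.ext h))
    let W : P → ℂ := fun u => conj (wt p M P e (χ₀ : G → ℂ) (ψ : G → ℂ) u)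
    have hWcl : IsClassFunction P W := fun u x => by
      have := wt_conj hM hP.pair hcl (CfsgLib.Char.IsIrrCharacter.isClassFunction ψ.2) x.2 u.2
      simp only [W, Subgroup.coe_mul, InvMemClass.coe_inv, this]
    have hW0 : ∀ lam : IrrCharacter P, classInner W (lam : P → ℂ) = 0 := by
      intro lam
      have h := classInner_star_star hM hP.pair hfus (hst lam) (η' := fun _ => 1)
        (fun _ _ _ _ _ _ => rfl) hcl (CfsgLib.Char.IsIrrCharacter.isClassFunction ψ.2)
      rw [star_one hM hB hP hno hψ, hzero lam] at h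
      have h2 := congrArg conj h
      rw [map_zero, map_mul, map_inv₀, map_natCast, map_sum] at h2
      rw [classInner, h2]
      congr 1
      exact Finset.sum_congr rfl fun u _ => by simp [W, extendByZero_coe]; ring
    have hW : W = 0 := by
      rw [CfsgLib.Char.IsClassFunction.eq_sum_classInner hWcl]
      simp [hW0]
    have h1 := congrFun hW 1
    simp only [W, Pi.zero_apply, OneMemClass.coe_one, map_eq_zero] at h1
    rw [wt_one hM hB hP hχ₀ hψ] at h1
    simp only [mul_eq_zero, inv_eq_zero, Nat.cast_eq_zero, Nat.card_pos.ne',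
      regPair_ne_zero hM hB hχ₀ hψ hmin, or_self] at h1
  exact ⟨Equiv.ofBijective _ ⟨hinj, hsurj⟩, fun lam => rfl, hone⟩

end CfsgLib.BlockStar
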