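import Cfsg.Agent.Lib.BlockStar.Trace
import Cfsg.Agent.Lib.Char.Brauer
import Cfsg.Agent.Lib.Char.Virtual
import Cfsg.Agent.Lib.Char.Complete
import Cfsg.Agent.Lib.CharDeep.Induction
import Cfsg.Agent.Lib.Blk83.CyclicAlg

/-!
# The star construction gives generalized characters

For a maximal pair `(P, e)` of a block `B`, a stable generalized character `η` of `P` and a
character `χ` of `B`, the function `star p M P e η χ` is a generalized character.
-/

set_option autoImplicit false

namespace CfsgLib.BlockStar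

open Cfsg CfsgLib.Blocks
open CfsgLib.Blocks.Pairs
open scoped Classical ComplexConjugate

universe u

/-- A class function with integral inner products is a generalized character. -/
theorem isGeneralizedCharacter_of_inner {K : Type*} [Group K] [Fintype K] {θ : K → ℂ}
    (hθ : IsClassFunction K θ)
    (h : ∀ ψ : IrrCharacter K, ∃ n : ℤ, classInner θ (ψ : K → ℂ) = n) :
    IsGeneralizedCharacter K θ := by
  choose n hn using h
  rw [CfsgLib.Char.IsClassFunction.eq_sum_classInner hθ]
  exact CfsgLib.Char.IsGeneralizedCharacter.sum Finset.univ _ fun ψ _ => by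
    rw [hn]
    exact CfsgLib.Char.IsGeneralizedCharacter.intCast_smul
      (CfsgLib.Char.IsIrrCharacter.isGeneralizedCharacter ψ.2) _

/-- Inner products of generalized characters are integers. -/
theorem exists_int_classInner_gen {K : Type*} [Group K] [Fintype K] {θ ψ : K → ℂ}
    (hθ : IsGeneralizedCharacter K θ) (hψ : IsGeneralizedCharacter K ψ) :
    ∃ z : ℤ, classInner θ ψ = z := by
  obtain ⟨a, b, ha, hb, rfl⟩ := hθ
  obtain ⟨c, d, hc, hd, rfl⟩ := hψ
  obtain ⟨n₁, e₁⟩ := CfsgLib.Char.IsCharacter.exists_nat_classInner' ha hc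
  obtain ⟨n₂, e₂⟩ := CfsgLib.Char.IsCharacter.exists_nat_classInner' ha hd
  obtain ⟨n₃, e₃⟩ := CfsgLib.Char.IsCharacter.exists_nat_classInner' hb hc
  obtain ⟨n₄, e₄⟩ := CfsgLib.Char.IsCharacter.exists_nat_classInner' hb hd
  exact ⟨(n₁ : ℤ) - n₂ - n₃ + n₄, by
    simp only [CfsgLib.Char.classInner_sub_left, CfsgLib.Char.classInner_sub_right, e₁, e₂, e₃, e₄]
    push_cast; ring⟩

variable {G : Type u} [Group G] [Finite G] {M : Ideal AlgInt} [M.IsMaximal] {p : ℕ}
  [Fact p.Prime] {P : Subgroup G} {e : MonoidAlgebra (ResField M) G} {η : G → ℂ}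
  {B : Set (IrrCharacter G)} {χ : IrrCharacter G}

theorem isClassFunction_starAt (hM : IsPModular p M) (hst : Stable p P e η) {K : Subgroup G}
    {θ : G → ℂ} (hθ : IsClassFunction G θ) {y : MonoidAlgebra (ResField M) G}
    (hy : y ∈ fixAlg (ResField M) K) (hyi : y * y = y) :
    IsClassFunction K (fun h : K => starAt p M P e η θ y h) := by
  intro g w
  have h1 := starAt_conj hM hst hθ (w : G) (g : G)
    (fixAlg_anti (Subgroup.zpowers_le.2 g.2) hy) hyi
  have h2 : cj (w : G) y = y := by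
    rw [cj_eq_conjA]
    exact conjA_eq_self_iff.2 fun z => mem_fixAlg.1 hy _ w.2 z
  rw [h2] at h1
  simpa using h1

theorem starAt_zero (hM : IsPModular p M) {θ : G → ℂ} (hθ : IsClassFunction G θ) {h : G}
    {y : MonoidAlgebra (ResField M) G}
    (h0 : trunc (Subgroup.zpowers (pp p h)) y = 0) : starAt p M P e η θ y h = 0 :=
  Finset.sum_eq_zero fun b _ => by rw [h0, zero_mul, val_zero θ h hM hθ, mul_zero]

theorem pp_hom {U R : Subgroup G} (hn : NilPair p U R) (x y : (U ⊔ R : Subgroup G)) :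
    pp p ((x * y : (U ⊔ R : Subgroup G)) : G) = pp p (x : G) * pp p (y : G) := by
  obtain ⟨u, hu, r, hr, hx⟩ := hn.exists_mul x.2
  obtain ⟨u', hu', r', hr', hy⟩ := hn.exists_mul y.2
  rw [Subgroup.coe_mul, hx, hy, hn.pp_mul hu hr, hn.pp_mul hu' hr']
  rw [show u * r * (u' * r') = u * u' * (r * r') by
    rw [mul_assoc u r, ← mul_assoc r u', ← (hn.comm' hu' hr).eq]; group]
  exact hn.pp_mul (U.mul_mem hu hu') (R.mul_mem hr hr')

/-- The local case. -/
theorem starAt_local (hM : IsPModular p M) (hB : IsPBlock M B) (hP : PairOf p (ebar hB) P e)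
    (hno : NoExt p P e) (hst : Stable p P e η)
    (hη : IsGeneralizedCharacter P fun u : P => η u) (hχ : χ ∈ B) {U R : Subgroup G}
    (hn : NilPair p U R) {y : fixAlg (ResField M) (U ⊔ R)} (hy : Prim y)
    (hl : trunc U (y : MonoidAlgebra (ResField M) G) ≠ 0) :
    IsGeneralizedCharacter (U ⊔ R : Subgroup G)
      (fun h : (U ⊔ R : Subgroup G) => starAt p M P e η (χ : G → ℂ) y h) := by
  haveI := charP_resField (M := M) hM.1 hM.2.2
  have hθ := CfsgLib.Char.IsIrrCharacter.isClassFunction χ.2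
  have hyi : (y : MonoidAlgebra (ResField M) G) * y = y := congrArg Subtype.val hy.1
  obtain ⟨f, hf, hyf⟩ := exists_local_pair hn hy hl
  obtain ⟨a, ha, hai, har⟩ := exists_idem_lift y.2 hyi
  have hppU : ∀ h ∈ U ⊔ R, pp p h ∈ U := by
    intro h hh
    obtain ⟨u, hu, r, hr, rfl⟩ := hn.exists_mul hh
    rwa [hn.pp_mul hu hr]
  -- only one block contributes
  have key : ∀ h ∈ U ⊔ R, ∀ b, SLE p (Subgroup.zpowers (pp p h)) b U f →
      starAt p M P e η (χ : G → ℂ) y h =
        pairVal p P e η (pp p h) b *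
          val M (χ : G → ℂ) h (trunc (Subgroup.zpowers (pp p h)) y * b) := by
    intro h _ b hb
    have hbl := (hb.pair_left hf).block
    refine Finset.sum_eq_single b (fun c hc hne => ?_) fun hh => absurd (mem_blks.2 hbl) hh
    have h0 : trunc (Subgroup.zpowers (pp p h)) (y : MonoidAlgebra (ResField M) G) * c = 0 := by
      rw [← trunc_mul_below hn hy hl hf hyf hb, mul_assoc,
        hbl.mul_eq_zero (mem_blks.1 hc) (Ne.symm hne), mul_zero]
    rw [h0, val_zero _ _ hM hθ, mul_zero]
  by_cases hfB : PairOf p (ebar hB) U f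
  swap
  · convert CfsgLib.Char.IsGeneralizedCharacter.zero using 1
    funext h
    obtain ⟨b, hb⟩ := (existsUnique_sle hf (Subgroup.zpowers_le.2 (hppU _ h.2))).1
    have hym : (y : MonoidAlgebra (ResField M) G) ∈
        fixAlg (ResField M) (Subgroup.zpowers (h : G)) :=
      fixAlg_anti (Subgroup.zpowers_le.2 h.2) y.2
    rw [key _ h.2 b hb, val_eq_zero_of_not_pairOf hM hB hχ hym hyi
      (mem_blks.2 (hb.pair_left hf).block) fun hp => hfB ((SLE.pairOf_iff hb).2 hp), mul_zero]
    rfl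
  obtain ⟨g, hg⟩ := exists_conj_sle hP hno hfB
  have hgU : ∀ h : (U ⊔ R : Subgroup G), g * pp p (h : G) * g⁻¹ ∈ P := fun h =>
    hg.le (mem_conjSub.2 (by simpa [mul_assoc] using hppU _ h.2))
  let φ : (U ⊔ R : Subgroup G) →* P :=
    MonoidHom.mk' (fun h => ⟨g * pp p (h : G) * g⁻¹, hgU h⟩) fun x y => Subtype.ext (by
      show g * pp p ((x * y : (U ⊔ R : Subgroup G)) : G) * g⁻¹ = _
      rw [pp_hom hn]
      simp [mul_assoc])
  have h1 := CfsgLib.Char.IsGeneralizedCharacter.mul
    (CfsgLib.Char.IsGeneralizedCharacter.comp hη φ)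
    (CfsgLib.Char.IsCharacter.isGeneralizedCharacter (isCharacter_lin χ ha hai))
  convert h1 using 1
  funext h
  obtain ⟨b, hb⟩ := (existsUnique_sle hf (Subgroup.zpowers_le.2 (hppU _ h.2))).1
  have hz : Subgroup.zpowers (pp p (h : G)) ≤ U := Subgroup.zpowers_le.2 (hppU _ h.2)
  have hh : Subgroup.zpowers (h : G) ≤ U ⊔ R := Subgroup.zpowers_le.2 h.2
  have hym := fixAlg_anti hh y.2
  obtain ⟨m1, -, -, -⟩ := summand_mem hM hym hyi (mem_blks.2 (hb.pair_left hf).block)
  have hyz := (mem_fixAlg.1 hym).mono (zpowers_pp_le (p := p) (h : G))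
  rw [key _ h.2 b hb, trunc_mul_below hn hy hl hf hyf hb, pairVal_eq hst ((hb.conj g).trans hg)]
  rw [Pi.mul_apply]
  congr 1
  refine val_eq hM hθ m1 ?_ (fixAlg_anti hh ha) hai ?_
  · rw [← trunc_mul (isPGroup_pp _) hyz hyz, hyi]
  · rw [img, har, trunc_trunc le_rfl]

/-- Conjugation on a fixed subalgebra. -/
noncomputable def cjFix {F : Type*} [Field F] (K : Subgroup G) (w : G)
    (hw : w ∈ Subgroup.normalizer (K : Set G)) : fixAlg F K ≃ₐ[F] fixAlg F K :=
  have hmem : ∀ w ∈ Subgroup.normalizer (K : Set G), ∀ a ∈ fixAlg F K, cj w a ∈ fixAlg F K := by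
    intro w hw a ha
    rw [mem_fixAlg] at ha ⊢
    intro u hu x
    rw [coeff_cj, coeff_cj, show w⁻¹ * (u * x * u⁻¹) * w =
      (w⁻¹ * u * w) * (w⁻¹ * x * w) * (w⁻¹ * u * w)⁻¹ by group]
    exact ha _ ((Subgroup.mem_normalizer_iff''.1 hw u).1 hu) _
  AlgEquiv.ofBijective
    (((cj w).comp (fixAlg F K).val).codRestrict (fixAlg F K) fun a => hmem w hw a a.2)
    ⟨fun a b h => Subtype.ext (by
      have h0 : cj w (a : MonoidAlgebra F G) = cj w (b : MonoidAlgebra F G) := congrArg Subtype.val h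
      have h1 := congrArg (cj (R := F) w⁻¹) h0
      rwa [cj_cj, cj_cj, inv_mul_cancel, cj_one, cj_one] at h1),
     fun b => ⟨⟨cj w⁻¹ (b : MonoidAlgebra F G), hmem _ (Subgroup.inv_mem _ hw) b b.2⟩,
      Subtype.ext (by
        show cj w (cj w⁻¹ (b : MonoidAlgebra F G)) = b
        rw [cj_cj, mul_inv_cancel, cj_one])⟩⟩

theorem coe_cjFix {F : Type*} [Field F] (K : Subgroup G) (w : G)
    (hw : w ∈ Subgroup.normalizer (K : Set G)) (a : fixAlg F K) :
    (cjFix K w hw a : MonoidAlgebra F G) = cj w (a : MonoidAlgebra F G) := rfl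

/-- The sum over a subgroup of a function as a sum over a larger one. -/
theorem sum_subgroup_eq {K K' : Subgroup G} [Fintype K] [Fintype K'] (h : K' ≤ K) (F : G → ℂ)
    (hF : ∀ x ∈ K, x ∉ K' → F x = 0) : ∑ x : K, F x = ∑ x : K', F x := by
  refine (Finset.sum_bij_ne_zero (fun (x : K') _ _ => (⟨x, h x.2⟩ : K))
    (fun _ _ _ => Finset.mem_univ _) (fun _ _ _ _ _ _ e => Subtype.ext (congrArg Subtype.val e :))
    (fun x _ hne => ?_) fun _ _ _ => rfl).symm
  by_cases hx : (x : G) ∈ K'
  · exact ⟨⟨x, hx⟩, Finset.mem_univ _, hne, Subtype.ext rfl⟩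
  · exact absurd (hF x x.2 hx) hne

/-- The function localised at an idempotent is a generalized character. -/
theorem isGeneralizedCharacter_starAt (hM : IsPModular p M) (hB : IsPBlock M B)
    (hP : PairOf p (ebar hB) P e) (hno : NoExt p P e) (hst : Stable p P e η)
    (hη : IsGeneralizedCharacter P fun u : P => η u) (hχ : χ ∈ B) {U R : Subgroup G}
    (hn : NilPair p U R) {y : MonoidAlgebra (ResField M) G}
    (hy : y ∈ fixAlg (ResField M) (U ⊔ R)) (hyi : y * y = y) :
    IsGeneralizedCharacter (U ⊔ R : Subgroup G)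
      (fun h : (U ⊔ R : Subgroup G) => starAt p M P e η (χ : G → ℂ) y h) := by
  haveI := charP_resField (M := M) hM.1 hM.2.2
  have hθ := CfsgLib.Char.IsIrrCharacter.isClassFunction χ.2
  generalize hm : Nat.card U = m
  induction m using Nat.strong_induction_on generalizing U y with
  | _ m ih =>
  haveI := finiteDimensional_monoidAlgebra (F := ResField M) (G := G)
  haveI : IsAlgClosed (ResField M) := CfsgLib.Blk83.Cyc.isAlgClosed_resField
  suffices h : ∀ z : fixAlg (ResField M) (U ⊔ R), z * z = z →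
      IsGeneralizedCharacter (U ⊔ R : Subgroup G) (fun h : (U ⊔ R : Subgroup G) =>
        starAt p M P e η (χ : G → ℂ) (z : MonoidAlgebra (ResField M) G) h) from
    h ⟨y, hy⟩ (Subtype.ext hyi)
  intro z hz
  refine idem_induction (ResField M)
    (P := fun z : fixAlg (ResField M) (U ⊔ R) =>
      IsGeneralizedCharacter (U ⊔ R : Subgroup G) (fun h : (U ⊔ R : Subgroup G) =>
        starAt p M P e η (χ : G → ℂ) (z : MonoidAlgebra (ResField M) G) h)) ?_ ?_ ?_ z hz
  · convert CfsgLib.Char.IsGeneralizedCharacter.zero using 1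
    exact funext fun h => starAt_zero hM hθ (trunc_zero _)
  swap
  · intro a b ha hb hab hba h1 h2
    convert CfsgLib.Char.IsGeneralizedCharacter.add h1 h2 using 1
    funext h
    rw [Pi.add_apply, Subalgebra.coe_add]
    exact starAt_add hM hθ (fixAlg_anti (Subgroup.zpowers_le.2 h.2) a.2) (congrArg Subtype.val ha)
      (fixAlg_anti (Subgroup.zpowers_le.2 h.2) b.2) (congrArg Subtype.val hb)
      (congrArg Subtype.val hab) (congrArg Subtype.val hba)
  intro w hw
  by_cases hl : trunc U (w : MonoidAlgebra (ResField M) G) = 0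
  swap
  · exact starAt_local hM hB hP hno hst hη hχ hn hw hl
  obtain ⟨V, a, hVU, hVn, hVi, ha, hwa⟩ := exists_eq_rtr hn hw hl
  have hwi : (w : MonoidAlgebra (ResField M) G) * w = w := congrArg Subtype.val hw.1
  have hle : V ⊔ R ≤ U ⊔ R := sup_le_sup_right hVU R
  have hnV : NilPair p V R := hn.mono hVU
  have hp : p.Prime := Fact.out
  have hcard : Nat.card U = p * Nat.card V := by
    rw [← (V.subgroupOf U).card_mul_index, hVi,
      Nat.card_congr (Subgroup.subgroupOfEquivOfLe hVU).toEquiv, mul_comm]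
  have hlt : Nat.card V < m := by
    rw [← hm, hcard]
    exact lt_mul_of_one_lt_left Nat.card_pos hp.one_lt
  have hcardK : Nat.card (U ⊔ R : Subgroup G) = p * Nat.card (V ⊔ R : Subgroup G) := by
    rw [hn.card_sup, hnV.card_sup, hcard, mul_assoc]
  letI := Fintype.ofFinite (U ⊔ R : Subgroup G)
  letI := Fintype.ofFinite (V ⊔ R : Subgroup G)
  refine isGeneralizedCharacter_of_inner (isClassFunction_starAt hM hst hθ w.2 hwi) fun ψ => ?_
  -- the integral function on the idempotents of the smaller fixed algebra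
  let ψ' : (V ⊔ R : Subgroup G) → ℂ := fun h => (ψ : (U ⊔ R : Subgroup G) → ℂ) ⟨h, hle h.2⟩
  have hψ' : IsGeneralizedCharacter (V ⊔ R : Subgroup G) ψ' :=
    CfsgLib.Char.IsGeneralizedCharacter.comp
      (CfsgLib.Char.IsIrrCharacter.isGeneralizedCharacter ψ.2) (Subgroup.inclusion hle)
  let I : fixAlg (ResField M) (V ⊔ R) → ℂ := fun z =>
    classInner (fun h : (V ⊔ R : Subgroup G) =>
      starAt p M P e η (χ : G → ℂ) (z : MonoidAlgebra (ResField M) G) h) ψ'
  have hI : ∀ z : fixAlg (ResField M) (V ⊔ R), z * z = z → ∃ n : ℤ, I z = n := fun z hz =>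
    exists_int_classInner_gen (ih _ hlt hnV z.2 (congrArg Subtype.val hz) rfl) hψ'
  let fI : fixAlg (ResField M) (V ⊔ R) → ℤ := fun z =>
    if hz : ∃ n : ℤ, I z = n then hz.choose else 0
  have hfI : ∀ z, z * z = z → (fI z : ℂ) = I z := fun z hz => by
    simp only [fI, dif_pos (hI z hz)]
    exact (hI z hz).choose_spec.symm
  have hfix : ∀ (z : fixAlg (ResField M) (V ⊔ R)) (h : (V ⊔ R : Subgroup G)),
      (z : MonoidAlgebra (ResField M) G) ∈ fixAlg (ResField M) (Subgroup.zpowers (h : G)) :=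
    fun z h => fixAlg_anti (Subgroup.zpowers_le.2 h.2) z.2
  have hadd : ∀ a b : fixAlg (ResField M) (V ⊔ R), a * a = a → b * b = b → a * b = 0 → b * a = 0 →
      fI (a + b) = fI a + fI b := by
    intro a b ha hb hab hba
    have hi : (a + b) * (a + b) = a + b := by
      rw [add_mul, mul_add, mul_add, ha, hb, hab, hba, add_zero, zero_add]
    have : (fI (a + b) : ℂ) = (fI a : ℂ) + fI b := by
      rw [hfI _ hi, hfI _ ha, hfI _ hb]
      simp only [I, classInner, ← mul_add, ← Finset.sum_add_distrib]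
      congr 1
      refine Finset.sum_congr rfl fun h _ => ?_
      rw [Subalgebra.coe_add, starAt_add hM hθ (hfix a h) (congrArg Subtype.val ha) (hfix b h)
        (congrArg Subtype.val hb) (congrArg Subtype.val hab) (congrArg Subtype.val hba), add_mul]
    exact_mod_cast this
  have htr : ∀ a b : fixAlg (ResField M) (V ⊔ R), IsIdempotentElem (a * b) →
      IsIdempotentElem (b * a) → fI (a * b) = fI (b * a) := by
    intro a b h1 h2
    have : (fI (a * b) : ℂ) = fI (b * a) := by
      rw [hfI _ h1.eq, hfI _ h2.eq]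
      simp only [I, classInner]
      congr 1
      refine Finset.sum_congr rfl fun h _ => ?_
      congr 1
      exact starAt_mul_comm hM hθ (hfix a h) (hfix b h) (congrArg Subtype.val h1.eq)
        (congrArg Subtype.val h2.eq)
    exact_mod_cast this
  -- the transversal
  haveI := hVn
  letI := Fintype.ofFinite (U ⧸ V.subgroupOf U)
  let σ : U ⧸ V.subgroupOf U → (fixAlg (ResField M) (V ⊔ R) ≃ₐ[ResField M]
      fixAlg (ResField M) (V ⊔ R)) := fun q => cjFix (V ⊔ R) ((q.out : U) : G) (by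
    have h1 : ((q.out : U) : G) ∈ Subgroup.normalizer (V : Set G) := by
      have hN := (Subgroup.normal_subgroupOf_iff_le_normalizer hVU).1 hVn
      exact hN q.out.2
    have h2 : ((q.out : U) : G) ∈ Subgroup.normalizer (R : Set G) :=
      Subgroup.centralizer_le_normalizer _ (Subgroup.mem_centralizer_iff.2 fun r hr =>
        ((hn.comm' q.out.2 hr).eq).symm)
    apply mem_normalizer_of_conjSub_eq
    rw [conjSub, Subgroup.map_sup]
    exact congrArg₂ _ (conjSub_eq_of_mem_normalizer h1) (conjSub_eq_of_mem_normalizer h2))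
  have hσ : ∀ q, ∀ z : fixAlg (ResField M) (V ⊔ R), z * z = z → fI (σ q z) = fI z := by
    intro q z hz
    have : (fI (σ q z) : ℂ) = fI z := by
      rw [hfI _ (by rw [← map_mul, hz]), hfI _ hz]
      simp only [I, classInner]
      congr 1
      set t : G := ((q.out : U) : G) with ht
      have htK : t ∈ U ⊔ R := Subgroup.mem_sup_left q.out.2
      have hN : ∀ h ∈ V ⊔ R, t * h * t⁻¹ ∈ V ⊔ R := fun h hh => by
        obtain ⟨v, hv, r, hr, rfl⟩ := hnV.exists_mul hh
        have hvt : t * v * t⁻¹ ∈ V := (Subgroup.mem_normalizer_iff.1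
          ((Subgroup.normal_subgroupOf_iff_le_normalizer hVU).1 hVn q.out.2) v).1 hv
        rw [show t * (v * r) * t⁻¹ = t * v * t⁻¹ * (t * r * t⁻¹) by group,
          (hn.comm' q.out.2 hr).eq, mul_inv_cancel_right]
        exact Subgroup.mul_mem_sup hvt hr
      let π : (V ⊔ R : Subgroup G) → (V ⊔ R : Subgroup G) := fun h => ⟨_, hN h h.2⟩
      have hπ : Function.Bijective π := Finite.injective_iff_bijective.1 fun h h' hh =>
        Subtype.ext (mul_left_cancel (mul_right_cancel (congrArg Subtype.val hh :)))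
      refine ((Fintype.sum_bijective π hπ _ _ fun h => ?_)).symm
      simp only [π]
      rw [coe_cjFix, starAt_conj hM hst hθ _ _ (hfix z h) (congrArg Subtype.val hz)]
      congr 2
      exact ((CfsgLib.Char.IsIrrCharacter.isClassFunction ψ.2)
        ⟨h, hle h.2⟩ ⟨t, htK⟩).symm
    exact_mod_cast this
  have hsum : (⟨(w : MonoidAlgebra (ResField M) G), fixAlg_anti hle w.2⟩ :
      fixAlg (ResField M) (V ⊔ R)) = ∑ q, σ q ⟨a, ha⟩ := by
    apply Subtype.ext
    rw [AddSubmonoidClass.coe_finsetSum]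
    simp only [σ, coe_cjFix]
    exact hwa
  have hwi' : (⟨(w : MonoidAlgebra (ResField M) G), fixAlg_anti hle w.2⟩ :
      fixAlg (ResField M) (V ⊔ R)) * ⟨(w : MonoidAlgebra (ResField M) G), fixAlg_anti hle w.2⟩ =
      ⟨(w : MonoidAlgebra (ResField M) G), fixAlg_anti hle w.2⟩ := Subtype.ext hwi
  obtain ⟨t, ht⟩ := dvd_of_relTrace (p := p)
    (by rw [← Nat.card_eq_fintype_card, ← Subgroup.index_eq_card, hVi]) σ fI hadd htr hσ hwi' hsum
  refine ⟨t, ?_⟩
  have hF : ∀ x ∈ U ⊔ R, x ∉ V ⊔ R →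
      starAt p M P e η (χ : G → ℂ) (w : MonoidAlgebra (ResField M) G) x = 0 := by
    intro x hx hxV
    obtain ⟨u, hu, r, hr, rfl⟩ := hn.exists_mul hx
    refine starAt_zero hM hθ ?_
    rw [hn.pp_mul hu hr, hwa]
    exact trunc_rtr_eq_zero hVn hVi ((mem_fixAlg.1 ha).mono le_sup_left) hu
      fun h => hxV (Subgroup.mul_mem_sup h hr)
  have h1 := hfI _ hwi'
  rw [ht] at h1
  push_cast at h1
  simp only [I, classInner] at h1
  rw [classInner, hcardK, Nat.cast_mul, mul_inv, mul_assoc]
  let Φ : G → ℂ := fun x => if hx : x ∈ U ⊔ R then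
    starAt p M P e η (χ : G → ℂ) (w : MonoidAlgebra (ResField M) G) x *
      conj ((ψ : (U ⊔ R : Subgroup G) → ℂ) ⟨x, hx⟩) else 0
  have h2 : ∑ g : (U ⊔ R : Subgroup G),
      starAt p M P e η (χ : G → ℂ) (w : MonoidAlgebra (ResField M) G) (g : G) *
        conj ((ψ : (U ⊔ R : Subgroup G) → ℂ) g) = ∑ g : (U ⊔ R : Subgroup G), Φ g :=
    Finset.sum_congr rfl fun g _ => by simp [Φ, g.2]
  rw [h2, sum_subgroup_eq hle Φ fun x hx hxV => by simp [Φ, hx, hF x hx hxV]]
  have h3 : ∑ g : (V ⊔ R : Subgroup G), Φ g = ∑ g : (V ⊔ R : Subgroup G),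
      starAt p M P e η (χ : G → ℂ) (w : MonoidAlgebra (ResField M) G) (g : G) * conj (ψ' g) :=
    Finset.sum_congr rfl fun g _ => by simp [Φ, ψ', hle g.2]
  rw [h3, ← h1, inv_mul_cancel_left₀ (Nat.cast_ne_zero.2 hp.ne_zero)]

/-- The star construction gives generalized characters. -/
theorem star_isGeneralizedCharacter (hM : IsPModular p M) (hB : IsPBlock M B)
    (hP : PairOf p (ebar hB) P e) (hno : NoExt p P e) (hst : Stable p P e η)
    (hη : IsGeneralizedCharacter P fun u : P => η u) (hχ : χ ∈ B) :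
    IsGeneralizedCharacter G (star p M P e η (χ : G → ℂ)) := by
  haveI := Fintype.ofFinite G
  refine CfsgLib.Char.isGeneralizedCharacter_of_elementary _
    (isClassFunction_star hM hst (CfsgLib.Char.IsIrrCharacter.isClassFunction χ.2))
    fun E q hq hE => ?_
  haveI := CfsgLib.Char.isNilpotent_of_isElementary hq hE
  obtain ⟨U, R, hn, rfl⟩ := exists_nilPair (p := p) E
  exact isGeneralizedCharacter_starAt hM hB hP hno hst hη hχ hn (one_mem _) (one_mul _)

end CfsgLib.BlockStar
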