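import Cfsg.Agent.Lib.BlockStar.Def
import Cfsg.Agent.Lib.Blocks.DegreeSq.Mult
import Cfsg.Agent.Lib.Blocks.Pairs.Bridge
import Cfsg.Agent.Lib.Blocks.Pairs.Lift
import Cfsg.Agent.S0923

/-!
# The star construction on the `p`-sections

At `z * s`, with `z` a `p`-element and `s` a `p`-regular element centralizing it, the star
construction is the sum over the blocks `b` of the centralizer of `z` of the value of `η` at the
pair `(z, b)` times the `b`-part of the translate of `θ` by `z`, evaluated at `s`.
-/

set_option autoImplicit false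
set_option maxHeartbeats 1000000
set_option synthInstance.maxHeartbeats 400000

namespace CfsgLib.BlockStar

open Cfsg CfsgLib.Blocks CfsgLib.Blocks.Pairs
open scoped Classical

universe u

variable {G : Type u} [Group G] {M : Ideal AlgInt} [M.IsMaximal]

omit [M.IsMaximal] in
/-- The centralizer of the cyclic group of an element is the centralizer of the element. -/
theorem centralizer_zpowers_eq_singleton (z : G) :
    Subgroup.centralizer (Subgroup.zpowers z : Set G) = Subgroup.centralizer {z} := by
  rw [Subgroup.zpowers_eq_closure, Subgroup.centralizer_closure]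

/-- The value at a block idempotent of a centralizer is the block part of the translate. -/
theorem val_eIn_eq_blockPart [Finite G] {p : ℕ} [Fact p.Prime] (hM : IsPModular p M) {θ : G → ℂ}
    (hθ : IsClassFunction G θ) {z : G} {C : Subgroup G} (hC : C = Subgroup.centralizer ({z} : Set G))
    {b : Set (IrrCharacter C)} (hb : IsPBlock M b) (y : C) :
    val M θ (z * (y : G)) (eIn hb) = blockPart b (fun c : C => θ (z * (c : G))) y := by
  haveI := Fintype.ofFinite G
  haveI := Fintype.ofFinite C
  have hcm : ∀ c : C, (c : G) * z = z * c := fun c =>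
    Subgroup.mem_centralizer_singleton_iff.mp (hC ▸ c.2 : (c : G) ∈ Subgroup.centralizer {z})
  have hh : z * (y : G) ∈ C :=
    C.mul_mem (by rw [hC]; exact Subgroup.mem_centralizer_singleton_iff.mpr rfl) y.2
  have hle : Subgroup.zpowers (z * (y : G)) ≤ C := Subgroup.zpowers_le.2 hh
  set E : MonoidAlgebra (locRing M) G :=
    ofFun fun g => ⟨subgroupBlockCoeff C b g, subgroupBlockCoeff_mem hb g⟩ with hE
  have hEcoe : ∀ g, (E.coeff g : ℂ) = (exactIn C b).coeff g := fun g => by simp [E, exactIn]
  let ι : MonoidAlgebra (locRing M) G →+* MonoidAlgebra ℂ G :=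
    MonoidAlgebra.mapRingHom G (locRing M).subtype
  have hιinj : Function.Injective ι := fun a a' h => MonoidAlgebra.ext (Finsupp.ext fun g =>
    Subtype.ext (by simpa [ι] using congrArg (fun z => z.coeff g) h))
  have hιE : ι E = exactIn C b := by
    ext g
    simp [ι, E, exactIn]
  have hEi : E * E = E := hιinj (by rw [map_mul, hιE, exactIn_idem])
  have hEm : E ∈ fixAlg (locRing M) (Subgroup.zpowers (z * (y : G))) :=
    mem_fixAlg.2 fun u hu x => Subtype.ext <| by
      rw [hEcoe, hEcoe]
      exact (inCenter_exactIn C b).fixed u (hle hu) x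
  have hEr : redA M E = eIn hb := by
    ext g
    rw [coeff_redA, coeff_eIn, hE, coeff_ofFun]
  have hcl : IsClassFunction C (fun c : C => θ (z * (c : G))) := fun c d => by
    simp only [Subgroup.coe_mul, InvMemClass.coe_inv]
    rw [← mul_assoc, ← mul_assoc, ← hcm d, mul_assoc (d : G) z]
    exact hθ (z * (c : G)) (d : G)
  rw [val_eq hM hθ (mem_fixAlg.2 ((isBlockIdem_eIn hb).mem.fixed.mono hle))
    (isBlockIdem_eIn hb).idem hEm hEi (by rw [img, hEr]), lin_mul_single,
    Cfsg.Agent.S0923.blockPart_eq _ _ hcl, finsum_eq_sum_of_fintype]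
  refine (Finset.sum_bij_ne_zero (fun (c : C) _ _ => (c : G)) (fun _ _ _ => Finset.mem_univ _)
    (fun a _ _ a' _ _ h => Subtype.ext h) (fun k _ hk => ?_) (fun c _ _ => ?_)).symm
  · have hkC : k ∈ C := by
      by_contra h
      refine hk ?_
      rw [hEcoe]
      simp [exactIn, subgroupBlockCoeff, dif_neg h]
    refine ⟨⟨k, hkC⟩, Finset.mem_univ _, ?_, rfl⟩
    intro h0
    apply hk
    have hc := hcm ⟨k, hkC⟩
    rw [hEcoe, ← mul_assoc, hc, mul_assoc]
    simpa [exactIn, subgroupBlockCoeff, hkC] using h0
  · rw [hEcoe, ← mul_assoc (c : G), hcm c, mul_assoc]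
    simp [exactIn, subgroupBlockCoeff]

/-- The star construction on the `p`-section of `z`. -/
theorem star_section [Fintype G] {p : ℕ} [Fact p.Prime] (hM : IsPModular p M) (P : Subgroup G)
    (e : MonoidAlgebra (ResField M) G) (η : G → ℂ) {θ : G → ℂ} (hθ : IsClassFunction G θ)
    (z : G) (hz : ∃ k : ℕ, orderOf z = p ^ k) (s : Subgroup.centralizer ({z} : Set G))
    (hs : IsPRegular p s) :
    star p M P e η θ (z * (s : G)) =
      ∑ b : {b : Set (IrrCharacter (Subgroup.centralizer ({z} : Set G))) // IsPBlock M b},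
        pairVal p P e η z (eIn b.2) * blockPart b.1 (fun c => θ (z * (c : G))) s := by
  obtain ⟨k, hk⟩ := hz
  have hpp : pp p (z * (s : G)) = z := by
    refine pp_eq (isPPart_of_commute ?_ hk ?_)
    · exact (Subgroup.mem_centralizer_singleton_iff.mp s.2).symm
    · rw [Subgroup.orderOf_coe]
      exact hs
  rw [star, starAt, hpp, centralizer_zpowers_eq_singleton z]
  simp only [trunc_one, one_mul]
  refine (Finset.sum_bij (fun b _ => eIn b.2) (fun b _ => mem_blks.2 (isBlockIdem_eIn b.2))
    (fun a _ a' _ h => Subtype.ext (eIn_injective a.2 a'.2 h)) (fun c hc => ?_)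
    (fun b _ => ?_)).symm
  · obtain ⟨b, hb, hbc⟩ := exists_eIn_eq (mem_blks.1 hc)
    exact ⟨⟨b, hb⟩, Finset.mem_univ _, hbc⟩
  · rw [val_eIn_eq_blockPart hM hθ rfl]

end CfsgLib.BlockStar
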