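import Cfsg.Agent.Lib.BlockStar.Value
import Cfsg.Agent.Lib.Blocks.Pairs.Maximal

/-!
# The star construction of Broué and Puig

`star p M P e η θ` is the class function sending `h`, with `p`-part `z`, to the sum over the blocks
`b` of the centralizer of `z` of `η` at `(z, b)`, transported below the pair `(P, e)`, times the
value of `θ` at `h` times `b`.
-/

set_option autoImplicit false

namespace CfsgLib.BlockStar

open Cfsg CfsgLib.Blocks
open CfsgLib.Blocks.Pairs
open scoped Classical

universe u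

variable {G : Type u} [Group G] [Finite G] {M : Ideal AlgInt} [M.IsMaximal]

/-- `η` takes the same value at elements of `P` whose pairs below `(P, e)` are conjugate. -/
def Stable (p : ℕ) (P : Subgroup G) (e : MonoidAlgebra (ResField M) G) (η : G → ℂ) : Prop :=
  ∀ u ∈ P, ∀ (g : G) (f : MonoidAlgebra (ResField M) G), SLE p (Subgroup.zpowers u) f P e →
    SLE p (conjSub g (Subgroup.zpowers u)) (conjA g f) P e → η (g * u * g⁻¹) = η u

/-- The value of `η` at the pair `(z, b)`, moved below `(P, e)`; zero if this is impossible. -/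
noncomputable def pairVal (p : ℕ) (P : Subgroup G) (e : MonoidAlgebra (ResField M) G) (η : G → ℂ)
    (z : G) (b : MonoidAlgebra (ResField M) G) : ℂ :=
  if hex : ∃ g : G, SLE p (conjSub g (Subgroup.zpowers z)) (conjA g b) P e then
    η (hex.choose * z * hex.choose⁻¹)
  else 0

/-- The localisation of the star construction at an idempotent `y`. -/
noncomputable def starAt (p : ℕ) [Fact p.Prime] (M : Ideal AlgInt) [M.IsMaximal] (P : Subgroup G)
    (e : MonoidAlgebra (ResField M) G) (η θ : G → ℂ) (y : MonoidAlgebra (ResField M) G)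
    (h : G) : ℂ :=
  ∑ b ∈ blks (F := ResField M) (Subgroup.centralizer (Subgroup.zpowers (pp p h) : Set G)),
    pairVal p P e η (pp p h) b * val M θ h (trunc (Subgroup.zpowers (pp p h)) y * b)

/-- The star construction. -/
noncomputable def star (p : ℕ) [Fact p.Prime] (M : Ideal AlgInt) [M.IsMaximal] (P : Subgroup G)
    (e : MonoidAlgebra (ResField M) G) (η θ : G → ℂ) : G → ℂ :=
  starAt p M P e η θ 1

theorem conjSub_zpowers_eq (g x : G) :
    conjSub g (Subgroup.zpowers x) = Subgroup.zpowers (g * x * g⁻¹) :=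
  (MonoidHom.map_zpowers _ x).trans rfl

variable {p : ℕ} [Fact p.Prime] {P : Subgroup G} {e : MonoidAlgebra (ResField M) G} {η : G → ℂ}

theorem pairVal_eq (hst : Stable p P e η) {z g : G} {b : MonoidAlgebra (ResField M) G}
    (h : SLE p (conjSub g (Subgroup.zpowers z)) (conjA g b) P e) :
    pairVal p P e η z b = η (g * z * g⁻¹) := by
  have hex : ∃ g : G, SLE p (conjSub g (Subgroup.zpowers z)) (conjA g b) P e := ⟨g, h⟩
  rw [pairVal, dif_pos hex]
  set g₀ := hex.choose with hg₀
  have h₀ : SLE p (conjSub g₀ (Subgroup.zpowers z)) (conjA g₀ b) P e := hex.choose_spec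
  have hu : g₀ * z * g₀⁻¹ ∈ P :=
    h₀.le (by rw [conjSub_zpowers_eq]; exact Subgroup.mem_zpowers _)
  have h1 : SLE p (Subgroup.zpowers (g₀ * z * g₀⁻¹)) (conjA g₀ b) P e := by
    rwa [← conjSub_zpowers_eq]
  have h2 : SLE p (conjSub (g * g₀⁻¹) (Subgroup.zpowers (g₀ * z * g₀⁻¹)))
      (conjA (g * g₀⁻¹) (conjA g₀ b)) P e := by
    rwa [← conjSub_zpowers_eq g₀ z, conjSub_conjSub, conjA_conjA, inv_mul_cancel_right]
  rw [← hst _ hu (g * g₀⁻¹) _ h1 h2]
  congr 1
  group

theorem pairVal_eq_zero {z : G} {b : MonoidAlgebra (ResField M) G}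
    (h : ∀ g : G, ¬ SLE p (conjSub g (Subgroup.zpowers z)) (conjA g b) P e) :
    pairVal p P e η z b = 0 := by
  rw [pairVal, dif_neg]
  push Not
  exact h

theorem pairVal_conj (hst : Stable p P e η) (x z : G) (b : MonoidAlgebra (ResField M) G) :
    pairVal p P e η (x * z * x⁻¹) (conjA x b) = pairVal p P e η z b := by
  by_cases hex : ∃ g : G, SLE p (conjSub g (Subgroup.zpowers z)) (conjA g b) P e
  · obtain ⟨g, hg⟩ := hex
    rw [pairVal_eq hst hg, pairVal_eq hst (g := g * x⁻¹) (by
      rwa [← conjSub_zpowers_eq x z, conjSub_conjSub, conjA_conjA, inv_mul_cancel_right])]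
    congr 1
    group
  · push Not at hex
    rw [pairVal_eq_zero hex, pairVal_eq_zero fun g hg => hex (g * x) (by
      rwa [← conjSub_conjSub, conjSub_zpowers_eq x z, ← conjA_conjA])]

theorem pairVal_add (η' : G → ℂ) (z : G) (b : MonoidAlgebra (ResField M) G) :
    pairVal p P e (fun g => η g + η' g) z b = pairVal p P e η z b + pairVal p P e η' z b := by
  unfold pairVal
  split_ifs <;> simp

theorem pairVal_smul (c : ℂ) (z : G) (b : MonoidAlgebra (ResField M) G) :
    pairVal p P e (fun g => c * η g) z b = c * pairVal p P e η z b := by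
  unfold pairVal
  split_ifs <;> simp

theorem starAt_add_left (η' θ : G → ℂ) (y : MonoidAlgebra (ResField M) G) (h : G) :
    starAt p M P e (fun g => η g + η' g) θ y h =
      starAt p M P e η θ y h + starAt p M P e η' θ y h := by
  simp only [starAt, pairVal_add, add_mul, Finset.sum_add_distrib]

theorem starAt_smul_left (c : ℂ) (θ : G → ℂ) (y : MonoidAlgebra (ResField M) G) (h : G) :
    starAt p M P e (fun g => c * η g) θ y h = c * starAt p M P e η θ y h := by
  simp only [starAt, pairVal_smul, Finset.mul_sum, mul_assoc]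

/-- At a fixed element the summands are idempotents fixed by it. -/
theorem summand_mem (hM : IsPModular p M) {h : G} {y b : MonoidAlgebra (ResField M) G}
    (hy : y ∈ fixAlg (ResField M) (Subgroup.zpowers h)) (hyi : y * y = y)
    (hb : b ∈ blks (F := ResField M) (Subgroup.centralizer (Subgroup.zpowers (pp p h) : Set G))) :
    trunc (Subgroup.zpowers (pp p h)) y ∈ fixAlg (ResField M) (Subgroup.zpowers h) ∧
    b ∈ fixAlg (ResField M) (Subgroup.zpowers h) ∧
    Commute (trunc (Subgroup.zpowers (pp p h)) y) b ∧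
    trunc (Subgroup.zpowers (pp p h)) y * b * (trunc (Subgroup.zpowers (pp p h)) y * b) =
      trunc (Subgroup.zpowers (pp p h)) y * b := by
  haveI := charP_resField (M := M) hM.1 hM.2.2
  have hcm : h ∈ Subgroup.centralizer (Subgroup.zpowers (pp p h) : Set G) := by
    rw [CfsgLib.Blocks.mem_centralizer_zpowers_iff]
    obtain ⟨n, hn⟩ := Subgroup.mem_zpowers_iff.1 (pp_mem_zpowers (p := p) h)
    exact hn ▸ (Commute.refl h).zpow_right n
  have hle : Subgroup.zpowers h ≤ Subgroup.centralizer (Subgroup.zpowers (pp p h) : Set G) :=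
    Subgroup.zpowers_le.2 hcm
  have hb' := mem_blks.1 hb
  have hyz : ConjFixed (Subgroup.zpowers (pp p h)) y :=
    (mem_fixAlg.1 hy).mono (zpowers_pp_le h)
  have h1 : trunc (Subgroup.zpowers (pp p h)) y * trunc (Subgroup.zpowers (pp p h)) y =
      trunc (Subgroup.zpowers (pp p h)) y := by
    rw [← trunc_mul (isPGroup_pp h) hyz hyz, hyi]
  have hcomm : Commute (trunc (Subgroup.zpowers (pp p h)) y) b :=
    mul_comm_of_suppIn (trunc_suppIn _ _) hb'.mem.fixed
  refine ⟨mem_fixAlg.2 (trunc_conjFixed (hle.trans (Subgroup.centralizer_le_normalizer _))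
    (mem_fixAlg.1 hy)), mem_fixAlg.2 (hb'.mem.fixed.mono hle), hcomm, ?_⟩
  exact (IsIdempotentElem.mul_of_commute hcomm h1 hb'.idem).eq

theorem starAt_add (hM : IsPModular p M) {θ : G → ℂ} (hθ : IsClassFunction G θ) {h : G}
    {y y' : MonoidAlgebra (ResField M) G} (hy : y ∈ fixAlg (ResField M) (Subgroup.zpowers h))
    (hyi : y * y = y) (hy' : y' ∈ fixAlg (ResField M) (Subgroup.zpowers h)) (hyi' : y' * y' = y')
    (h1 : y * y' = 0) (h2 : y' * y = 0) :
    starAt p M P e η θ (y + y') h =
      starAt p M P e η θ y h + starAt p M P e η θ y' h := by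
  haveI := charP_resField (M := M) hM.1 hM.2.2
  simp only [starAt, ← Finset.sum_add_distrib]
  refine Finset.sum_congr rfl fun b hb => ?_
  obtain ⟨m1, m2, c1, i1⟩ := summand_mem hM hy hyi hb
  obtain ⟨m1', -, c1', i1'⟩ := summand_mem hM hy' hyi' hb
  have hz : ∀ {a : MonoidAlgebra (ResField M) G},
      a ∈ fixAlg (ResField M) (Subgroup.zpowers h) → ConjFixed (Subgroup.zpowers (pp p h)) a :=
    fun ha => (mem_fixAlg.1 ha).mono (zpowers_pp_le h)
  have hbi := (mem_blks.1 hb).idem
  rw [trunc_add, add_mul, val_add hM hθ (mul_mem m1 m2) i1 (mul_mem m1' m2) i1', mul_add]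
  · rw [mul_assoc, ← mul_assoc b, ← c1'.eq, mul_assoc, hbi, ← mul_assoc,
      ← trunc_mul (isPGroup_pp h) (hz hy) (hz hy'), h1, trunc_zero, zero_mul]
  · rw [mul_assoc, ← mul_assoc b, ← c1.eq, mul_assoc, hbi, ← mul_assoc,
      ← trunc_mul (isPGroup_pp h) (hz hy') (hz hy), h2, trunc_zero, zero_mul]

theorem starAt_mul_comm (hM : IsPModular p M) {θ : G → ℂ} (hθ : IsClassFunction G θ) {h : G}
    {x y : MonoidAlgebra (ResField M) G} (hx : x ∈ fixAlg (ResField M) (Subgroup.zpowers h))
    (hy : y ∈ fixAlg (ResField M) (Subgroup.zpowers h)) (h1 : IsIdempotentElem (x * y))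
    (h2 : IsIdempotentElem (y * x)) :
    starAt p M P e η θ (x * y) h = starAt p M P e η θ (y * x) h := by
  haveI := charP_resField (M := M) hM.1 hM.2.2
  refine Finset.sum_congr rfl fun b hb => ?_
  have hz : ∀ {a : MonoidAlgebra (ResField M) G},
      a ∈ fixAlg (ResField M) (Subgroup.zpowers h) → ConjFixed (Subgroup.zpowers (pp p h)) a :=
    fun ha => (mem_fixAlg.1 ha).mono (zpowers_pp_le h)
  obtain ⟨-, m, -, i1⟩ := summand_mem hM (mul_mem hx hy) h1.eq hb
  obtain ⟨-, -, -, i2⟩ := summand_mem hM (mul_mem hy hx) h2.eq hb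
  have hb' := mem_blks.1 hb
  have hcm : h ∈ Subgroup.centralizer (Subgroup.zpowers (pp p h) : Set G) := by
    rw [CfsgLib.Blocks.mem_centralizer_zpowers_iff]
    obtain ⟨n, hn⟩ := Subgroup.mem_zpowers_iff.1 (pp_mem_zpowers (p := p) h)
    exact hn ▸ (Commute.refl h).zpow_right n
  have hle : Subgroup.zpowers h ≤ Subgroup.normalizer
      (Subgroup.zpowers (pp p h) : Set G) :=
    (Subgroup.zpowers_le.2 hcm).trans (Subgroup.centralizer_le_normalizer _)
  have htx : trunc (Subgroup.zpowers (pp p h)) x ∈ fixAlg (ResField M) (Subgroup.zpowers h) :=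
    mem_fixAlg.2 (trunc_conjFixed hle (mem_fixAlg.1 hx))
  have hty : trunc (Subgroup.zpowers (pp p h)) y ∈ fixAlg (ResField M) (Subgroup.zpowers h) :=
    mem_fixAlg.2 (trunc_conjFixed hle (mem_fixAlg.1 hy))
  have cx : Commute (trunc (Subgroup.zpowers (pp p h)) x) b :=
    mul_comm_of_suppIn (trunc_suppIn _ _) hb'.mem.fixed
  have cy : Commute (trunc (Subgroup.zpowers (pp p h)) y) b :=
    mul_comm_of_suppIn (trunc_suppIn _ _) hb'.mem.fixed
  rw [trunc_mul (isPGroup_pp h) (hz hx) (hz hy)] at i1 ⊢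
  rw [trunc_mul (isPGroup_pp h) (hz hy) (hz hx)] at i2 ⊢
  congr 1
  have e1 : ∀ {a c : MonoidAlgebra (ResField M) G}, Commute c b →
      a * b * (c * b) = a * c * b := fun {a c} hc => by
    rw [mul_assoc, ← mul_assoc b, ← hc.eq, mul_assoc, hb'.idem, ← mul_assoc]
  rw [← e1 cy, ← e1 cx]
  refine val_mul_comm hM hθ (mul_mem htx m) (mul_mem hty m) ?_ ?_
  · show _ * _ = _; rw [e1 cy]; exact i1
  · show _ * _ = _; rw [e1 cx]; exact i2

theorem starAt_conj (hM : IsPModular p M) (hst : Stable p P e η) {θ : G → ℂ}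
    (hθ : IsClassFunction G θ) (g h : G) {y : MonoidAlgebra (ResField M) G}
    (hy : y ∈ fixAlg (ResField M) (Subgroup.zpowers h)) (hyi : y * y = y) :
    starAt p M P e η θ (cj g y) (g * h * g⁻¹) = starAt p M P e η θ y h := by
  unfold starAt
  rw [pp_conj, ← conjSub_zpowers_eq]
  symm
  refine Finset.sum_bij (fun b _ => conjA g b) (fun b hb => ?_)
    (fun a _ b _ hab => conjA_injective g hab) (fun c hc => ?_) (fun b hb => ?_)
  · exact mem_blks.2 ((mem_blks.1 hb).conj_centralizer g)
  · refine ⟨conjA g⁻¹ c, mem_blks.2 ?_, by simp [conjA_conjA]⟩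
    have h1 := (mem_blks.1 hc).conj_centralizer g⁻¹
    rwa [conjSub_conjSub, inv_mul_cancel, conjSub_one] at h1
  · obtain ⟨m1, m2, -, i1⟩ := summand_mem hM hy hyi hb
    rw [pairVal_conj hst, cj_eq_conjA g y, trunc_conjA, ← conjA_mul, ← cj_eq_conjA,
      val_conj hM hθ g h (mul_mem m1 m2) i1]

/-- The star construction gives a class function. -/
theorem isClassFunction_star (hM : IsPModular p M) (hst : Stable p P e η) {θ : G → ℂ}
    (hθ : IsClassFunction G θ) : IsClassFunction G (star p M P e η θ) := by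
  intro h g
  have := starAt_conj hM hst hθ g h (one_mem _) (one_mul (1 : MonoidAlgebra (ResField M) G))
  rwa [map_one] at this

/-- A character of `B` takes the value zero at the blocks of centralizers not belonging to `B`. -/
theorem val_eq_zero_of_not_pairOf (hM : IsPModular p M) {B : Set (IrrCharacter G)}
    (hB : IsPBlock M B) {χ : IrrCharacter G} (hχ : χ ∈ B) {h : G}
    {y b : MonoidAlgebra (ResField M) G} (hy : y ∈ fixAlg (ResField M) (Subgroup.zpowers h))
    (hyi : y * y = y)
    (hb : b ∈ blks (F := ResField M) (Subgroup.centralizer (Subgroup.zpowers (pp p h) : Set G)))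
    (hnot : ¬ PairOf p (ebar hB) (Subgroup.zpowers (pp p h)) b) :
    val M (χ : G → ℂ) h (trunc (Subgroup.zpowers (pp p h)) y * b) = 0 := by
  haveI := charP_resField (M := M) hM.1 hM.2.2
  have hθ := CfsgLib.Char.IsIrrCharacter.isClassFunction χ.2
  obtain ⟨m1, m2, c1, i1⟩ := summand_mem hM hy hyi hb
  have hbl := mem_blks.1 hb
  have hBB := isBlockIdem_ebar hB
  obtain ⟨hB1, hB2⟩ := trunc_block_idem hBB (isPGroup_pp (p := p) h)
  have h0 : trunc (Subgroup.zpowers (pp p h)) (ebar hB) * b = 0 :=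
    (hbl.prim _ hB1 hB2).resolve_left fun hh => hnot ⟨hBB, ⟨isPGroup_pp h, hbl⟩, hh⟩
  have hEm : ebar hB ∈ fixAlg (ResField M) (Subgroup.zpowers h) :=
    mem_fixAlg.2 (hBB.mem.fixed.mono le_top)
  have hEc : Commute (ebar hB) (trunc (Subgroup.zpowers (pp p h)) y * b) :=
    (mul_comm_of_suppIn (fun x hx => absurd (Subgroup.mem_top x) hx) hBB.mem.fixed).symm
  rw [← val_blockMul hM hB hχ (mul_mem m1 m2) i1, ← val_zero (M := M) (χ : G → ℂ) h hM hθ]
  refine val_congr hM hθ (mul_mem hEm (mul_mem m1 m2))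
    (IsIdempotentElem.mul_of_commute hEc hBB.idem i1).eq (zero_mem _) (zero_mul _) ?_
  rw [trunc_mul (isPGroup_pp h) ((mem_fixAlg.1 hEm).mono (zpowers_pp_le h))
    ((mem_fixAlg.1 (mul_mem m1 m2)).mono (zpowers_pp_le h)),
    trunc_eq_self (a := trunc (Subgroup.zpowers (pp p h)) y * b)
      ((trunc_suppIn _ _).mul hbl.mem.supp), c1.eq, ← mul_assoc, h0, zero_mul, trunc_zero]

/-- On `p`-regular elements the star construction multiplies by `η 1`. -/
theorem star_regular (hM : IsPModular p M) {B : Set (IrrCharacter G)} (hB : IsPBlock M B)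
    (hP : PairOf p (ebar hB) P e) (hst : Stable p P e η) {χ : IrrCharacter G} (hχ : χ ∈ B)
    {h : G} (hh : IsPRegular p h) :
    star p M P e η (χ : G → ℂ) h = η 1 * (χ : G → ℂ) h := by
  haveI := charP_resField (M := M) hM.1 hM.2.2
  have hθ := CfsgLib.Char.IsIrrCharacter.isClassFunction χ.2
  have hpp : pp p h = 1 := pp_eq ⟨h, one_mul h, Commute.one_left h, ⟨0, by simp⟩, hh⟩
  have hz : Subgroup.zpowers (pp p h) = ⊥ := by rw [hpp, Subgroup.zpowers_one_eq_bot]
  have hC : Subgroup.centralizer (Subgroup.zpowers (pp p h) : Set G) = ⊤ := by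
    rw [hz]
    exact (Subgroup.eq_top_iff' _).2 fun x =>
      Subgroup.mem_centralizer_iff.2 fun y hy => by rw [Subgroup.mem_bot.1 hy]; simp
  have ht : ∀ a : MonoidAlgebra (ResField M) G, trunc (Subgroup.zpowers (pp p h)) a = a :=
    fun a => trunc_eq_self (fun x hx => absurd (hC ▸ Subgroup.mem_top x) hx)
  have hE : ebar hB ∈
      blks (F := ResField M) (Subgroup.centralizer (Subgroup.zpowers (pp p h) : Set G)) := by
    rw [mem_blks, hC]; exact isBlockIdem_ebar hB
  have hEm : ebar hB ∈ fixAlg (ResField M) (Subgroup.zpowers h) :=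
    mem_fixAlg.2 ((isBlockIdem_ebar hB).mem.fixed.mono le_top)
  rw [star, starAt, Finset.sum_eq_single (ebar hB)]
  · obtain ⟨f, hf⟩ := (existsUnique_sle hP.pair (bot_le : ⊥ ≤ P)).1
    have hfP := (SLE.pairOf_iff hf).1 hP
    have hfe : f = ebar hB := by
      have hbl : IsBlockIdem (⊤ : Subgroup G) f := by
        have h2 := hfP.pair.block
        rwa [show Subgroup.centralizer ((⊥ : Subgroup G) : Set G) = ⊤ by rw [← hz]; exact hC] at h2
      refine ((isBlockIdem_ebar hB).eq_of_mul_ne_zero hbl ?_).symm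
      have h1 := hfP.br
      rw [← hz, ht] at h1
      rw [h1]
      exact hbl.ne_zero
    have h1 := pairVal_eq hst (z := pp p h) (g := 1) (b := f)
      (by rwa [conjSub_one, conjA_one, hz])
    rw [← hfe, h1, ht, one_mul, one_mul, hpp, inv_one, mul_one, hfe]
    have h2 := val_blockMul hM hB hχ (h := h) (one_mem _) (one_mul _)
    rw [mul_one, val_one hM hθ] at h2
    rw [h2]
  · intro b hb hne
    rw [val_eq_zero_of_not_pairOf hM hB hχ (one_mem _) (one_mul _) hb, mul_zero]
    intro hp
    apply hne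
    refine (IsBlockIdem.eq_of_mul_ne_zero (H := (⊤ : Subgroup G)) (isBlockIdem_ebar hB)
      (hC ▸ mem_blks.1 hb) ?_).symm
    have h1 := hp.br
    rw [ht] at h1
    rw [h1]
    exact hp.pair.block.ne_zero
  · exact fun h => absurd hE h

end CfsgLib.BlockStar
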