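import Cfsg.Agent.Lib.RegLift.Idempotent
import Cfsg.Agent.Lib.Blocks.Section
import Cfsg.Agent.Lib.Blocks.Pairs.Lift
import Mathlib.RingTheory.IntegralClosure.IsIntegralClosure.Basic

/-!
# Fixed subalgebras of group algebras, reductions and lifting of idempotents
-/

set_option autoImplicit false

namespace CfsgLib.BlockStar

open Cfsg CfsgLib.Blocks Polynomial

universe u v

variable {R : Type v} [CommRing R] {G : Type u} [Group G] [Finite G]

instance finite_monoidAlgebra : Module.Finite R (MonoidAlgebra R G) :=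
  Module.Finite.equiv ((Finsupp.linearEquivFunOnFinite R R G).symm.trans
    (MonoidAlgebra.coeffLinearEquiv R).symm)

/-- The elements invariant under conjugation by `K`. -/
noncomputable def fixAlg (R : Type v) [CommRing R] (K : Subgroup G) :
    Subalgebra R (MonoidAlgebra R G) :=
  Subalgebra.centralizer R ((fun u => MonoidAlgebra.single u (1 : R)) '' (K : Set G))

theorem mem_fixAlg {K : Subgroup G} {a : MonoidAlgebra R G} :
    a ∈ fixAlg R K ↔ ConjFixed K a := by
  rw [fixAlg, Subalgebra.mem_centralizer_iff]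
  constructor
  · intro h
    have h' : ∀ u ∈ K, Commute (MonoidAlgebra.single u (1 : R)) a := fun u hu => h _ ⟨u, hu, rfl⟩
    simpa using coeff_pow_conjFixed h' 1
  · rintro h _ ⟨u, hu, rfl⟩
    exact (commute_single_of_conjFixed h hu).eq

theorem commute_of_mem_fixAlg {K : Subgroup G} {a : MonoidAlgebra R G} (ha : a ∈ fixAlg R K)
    {u : G} (hu : u ∈ K) : Commute (MonoidAlgebra.single u (1 : R)) a :=
  commute_single_of_conjFixed (mem_fixAlg.1 ha) hu

theorem fixAlg_anti {K K' : Subgroup G} (h : K ≤ K') : fixAlg R K' ≤ fixAlg R K := fun _ ha =>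
  mem_fixAlg.2 ((mem_fixAlg.1 ha).mono h)

theorem mem_fixAlg_zpowers {g : G} {a : MonoidAlgebra R G}
    (h : ∀ x, a.coeff (g * x * g⁻¹) = a.coeff x) : a ∈ fixAlg R (Subgroup.zpowers g) := by
  rw [fixAlg, Subalgebra.mem_centralizer_iff]
  rintro _ ⟨u, hu, rfl⟩
  have hc : Commute (MonoidAlgebra.single g (1 : R)) a := by
    refine MonoidAlgebra.ext (Finsupp.ext fun c => ?_)
    rw [coeff_single_mul_group, coeff_mul_single_group, one_mul, mul_one, ← h (g⁻¹ * c)]
    congr 1
    group
  obtain ⟨n, rfl⟩ := (isOfFinOrder_of_finite g).mem_powers_iff_mem_zpowers.2 hu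
  have := (hc.pow_left n).eq
  rwa [MonoidAlgebra.single_pow, one_pow] at this

/-- Conjugation by `g`. -/
noncomputable def cj (g : G) : MonoidAlgebra R G →ₐ[R] MonoidAlgebra R G where
  toFun a := MonoidAlgebra.single g 1 * a * MonoidAlgebra.single g⁻¹ 1
  map_one' := by simp [MonoidAlgebra.single_mul_single, MonoidAlgebra.one_def]
  map_mul' a b := by
    simp only [mul_assoc]
    rw [← mul_assoc (MonoidAlgebra.single g⁻¹ (1 : R)) (MonoidAlgebra.single g 1),
      MonoidAlgebra.single_mul_single, inv_mul_cancel, one_mul, ← MonoidAlgebra.one_def, one_mul]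
  map_zero' := by simp
  map_add' a b := by simp [mul_add, add_mul]
  commutes' r := by
    rw [mul_assoc, Algebra.commutes, ← mul_assoc, MonoidAlgebra.single_mul_single]
    simp [← MonoidAlgebra.one_def]

@[simp] theorem coeff_cj (g : G) (a : MonoidAlgebra R G) (x : G) :
    (cj g a).coeff x = a.coeff (g⁻¹ * x * g) := by
  show (MonoidAlgebra.single g 1 * a * MonoidAlgebra.single g⁻¹ 1).coeff x = _
  rw [coeff_mul_single_group, coeff_single_mul_group, one_mul, mul_one, inv_inv, mul_assoc]

theorem cj_eq_conjA {F : Type v} [Field F] (g : G) (a : MonoidAlgebra F G) :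
    cj g a = Pairs.conjA g a := by
  ext x; simp

theorem cj_cj (g h : G) (a : MonoidAlgebra R G) : cj g (cj h a) = cj (g * h) a := by
  ext x; simp [mul_assoc]

theorem cj_one (a : MonoidAlgebra R G) : cj (1 : G) a = a := by
  ext x; simp

/-! ### Reduction -/

variable {M : Ideal AlgInt} [M.IsMaximal]

/-- Reduction of coefficients. -/
noncomputable def redA (M : Ideal AlgInt) [M.IsMaximal] :
    MonoidAlgebra (locRing M) G →+* MonoidAlgebra (ResField M) G :=
  MonoidAlgebra.mapRingHom G (red M)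

@[simp] theorem coeff_redA (a : MonoidAlgebra (locRing M) G) (g : G) :
    (redA M a).coeff g = red M (a.coeff g) := coeff_map (red M) a g

theorem redA_mem {K : Subgroup G} {a : MonoidAlgebra (locRing M) G}
    (ha : a ∈ fixAlg (locRing M) K) : redA M a ∈ fixAlg (ResField M) K := by
  rw [mem_fixAlg] at ha ⊢
  intro u hu x
  simp [ha u hu x]

theorem redA_cj (g : G) (a : MonoidAlgebra (locRing M) G) :
    redA M (cj g a) = cj g (redA M a) := by
  ext x; simp

/-- A lift with the same invariance. -/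
theorem exists_lift {K : Subgroup G} {y : MonoidAlgebra (ResField M) G}
    (hy : y ∈ fixAlg (ResField M) K) :
    ∃ a ∈ fixAlg (locRing M) K, redA M a = y := by
  refine ⟨ofFun fun g => (red_surjective (M := M) (y.coeff g)).choose, ?_, ?_⟩
  · rw [mem_fixAlg] at hy ⊢
    intro u hu x
    simp only [coeff_ofFun]
    congr 1
    simp [hy u hu x]
  · ext g
    rw [coeff_redA, coeff_ofFun]
    exact (red_surjective (M := M) (y.coeff g)).choose_spec

omit [Finite G] in
theorem eval₂_of_idem {S : Type*} [Ring S] {A : Type*} [CommRing A] (f : A →+* S)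
    (Q : A[X]) (h0 : Q.eval 0 = 0) (h1 : Q.eval 1 = 1) {y : S} (hy : y * y = y) :
    Q.eval₂ f y = y := by
  have key : ∀ P : A[X], P.eval₂ f y = f (P.eval 0) * (1 - y) + f (P.eval 1) * y := by
    intro P
    induction P using Polynomial.induction_on' with
    | add P P' hP hP' =>
      rw [eval₂_add, hP, hP', eval_add, eval_add, map_add, map_add, add_mul, add_mul]
      abel
    | monomial n a =>
      rw [eval₂_monomial, eval_monomial, eval_monomial, one_pow, mul_one]
      rcases n with _ | n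
      · simp [mul_sub, mul_one]
      · rw [zero_pow (Nat.succ_ne_zero _), mul_zero, map_zero, zero_mul, zero_add,
          (show IsIdempotentElem y from hy).pow_succ_eq n]
  rw [key, h0, h1, map_zero, map_one, zero_mul, zero_add, one_mul]

omit [Finite G] in
theorem redA_aeval (a : MonoidAlgebra (locRing M) G) (Q : (locRing M)[X]) :
    redA M (aeval a Q) =
      Q.eval₂ ((algebraMap (ResField M) (MonoidAlgebra (ResField M) G)).comp (red M))
        (redA M a) := by
  rw [aeval_def, Polynomial.hom_eval₂]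
  congr 1
  ext r x
  simp [redA, MonoidAlgebra.coe_algebraMap]

/-- Idempotents lift. -/
theorem exists_idem_lift {K : Subgroup G} {y : MonoidAlgebra (ResField M) G}
    (hy : y ∈ fixAlg (ResField M) K) (hi : y * y = y) :
    ∃ a ∈ fixAlg (locRing M) K, a * a = a ∧ redA M a = y := by
  obtain ⟨a, ha, har⟩ := exists_lift hy
  obtain ⟨Q, hQ0, hQ1, hQ⟩ := CfsgLib.RegLift.exists_idempotent_poly (M := M)
    (a := a) (IsIntegral.of_finite _ a)
  refine ⟨aeval a Q, ?_, hQ, ?_⟩
  · exact Algebra.adjoin_le (Set.singleton_subset_iff.2 ha) (aeval_mem_adjoin_singleton _ a)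
  · rw [redA_aeval, har, eval₂_of_idem _ Q hQ0 hQ1 hi]

omit [Finite G] in
theorem aeval_mul_comm {S : Type*} [Ring S] {A : Type*} [CommRing A] [Algebra A S] (a b : S)
    (Q : A[X]) : aeval (a * b) Q * a = a * aeval (b * a) Q := by
  induction Q using Polynomial.induction_on' with
  | add P P' hP hP' => rw [map_add, map_add, add_mul, mul_add, hP, hP']
  | monomial n r =>
    rw [aeval_monomial, aeval_monomial, ← Algebra.smul_def, ← Algebra.smul_def, smul_mul_assoc,
      mul_smul_comm]
    congr 1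
    induction n with
    | zero => simp
    | succ n ih => rw [pow_succ', mul_assoc, ih, pow_succ', ← mul_assoc, ← mul_assoc, ← mul_assoc]

/-- An idempotent orthogonal to a given one lifts orthogonally. -/
theorem exists_orth_lift {K : Subgroup G} {a : MonoidAlgebra (locRing M) G}
    (ha : a ∈ fixAlg (locRing M) K) (hai : a * a = a) {y : MonoidAlgebra (ResField M) G}
    (hy : y ∈ fixAlg (ResField M) K) (hi : y * y = y) (h1 : redA M a * y = 0)
    (h2 : y * redA M a = 0) :
    ∃ b ∈ fixAlg (locRing M) K, b * b = b ∧ redA M b = y ∧ a * b = 0 ∧ b * a = 0 := by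
  obtain ⟨b₀, hb₀, hbr⟩ := exists_lift hy
  set c := (1 - a) * b₀ * (1 - a) with hc
  have hc1 : a * c = 0 := by
    have h : a * (1 - a) = 0 := by rw [mul_sub, mul_one, hai, sub_self]
    rw [hc, ← mul_assoc, ← mul_assoc, h, zero_mul, zero_mul]
  have hc2 : c * a = 0 := by
    have h : (1 - a) * a = 0 := by rw [sub_mul, one_mul, hai, sub_self]
    rw [hc, mul_assoc, h, mul_zero]
  have hcm : c ∈ fixAlg (locRing M) K :=
    mul_mem (mul_mem (sub_mem (one_mem _) ha) hb₀) (sub_mem (one_mem _) ha)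
  have hcr : redA M c = y := by
    rw [hc, map_mul, map_mul, map_sub, map_one, hbr, sub_mul, one_mul, h1, sub_zero, mul_sub,
      mul_one, h2, sub_zero]
  obtain ⟨Q, hQ0, hQ1, hQ⟩ := CfsgLib.RegLift.exists_idempotent_poly (M := M)
    (a := c) (IsIntegral.of_finite _ c)
  obtain ⟨Q', rfl⟩ : ∃ Q', Q = X * Q' := ⟨Q.divX, by
    conv_lhs => rw [← X_mul_divX_add Q]
    rw [coeff_zero_eq_eval_zero, hQ0, map_zero, add_zero]⟩
  refine ⟨aeval c (X * Q'), ?_, hQ, ?_, ?_, ?_⟩
  · exact Algebra.adjoin_le (Set.singleton_subset_iff.2 hcm) (aeval_mem_adjoin_singleton _ c)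
  · rw [redA_aeval, hcr, eval₂_of_idem _ _ hQ0 hQ1 hi]
  · rw [map_mul, aeval_X, ← mul_assoc, hc1, zero_mul]
  · rw [mul_comm X, map_mul, aeval_X, mul_assoc, hc2, mul_zero]

/-- Idempotents `x * y` and `y * x` lift to idempotents of the same shape. -/
theorem exists_trace_lift {K : Subgroup G} {x y : MonoidAlgebra (ResField M) G}
    (hx : x ∈ fixAlg (ResField M) K) (hy : y ∈ fixAlg (ResField M) K)
    (h1 : IsIdempotentElem (x * y)) (h2 : IsIdempotentElem (y * x)) :
    ∃ a ∈ fixAlg (locRing M) K, ∃ b ∈ fixAlg (locRing M) K, IsIdempotentElem (a * b) ∧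
      IsIdempotentElem (b * a) ∧ redA M (a * b) = x * y ∧ redA M (b * a) = y * x := by
  obtain ⟨a₀, ha₀, har⟩ := exists_lift hx
  obtain ⟨b₀, hb₀, hbr⟩ := exists_lift hy
  have hint : IsIntegral (locRing M) ((a₀ * b₀, b₀ * a₀) :
      MonoidAlgebra (locRing M) G × MonoidAlgebra (locRing M) G) := IsIntegral.of_finite _ _
  obtain ⟨Q, hQ0, hQ1, hQ⟩ := CfsgLib.RegLift.exists_idempotent_poly (M := M) hint
  rw [aeval_prod_apply] at hQ
  obtain ⟨hQa, hQb⟩ := Prod.ext_iff.1 hQ
  obtain ⟨Q', rfl⟩ : ∃ Q', Q = Q' * X := ⟨Q.divX, by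
    conv_lhs => rw [← divX_mul_X_add Q]
    rw [coeff_zero_eq_eval_zero, hQ0, map_zero, add_zero]⟩
  have e1 : a₀ * (aeval (b₀ * a₀) Q' * b₀) = aeval (a₀ * b₀) (Q' * X) := by
    rw [map_mul, aeval_X, ← mul_assoc, ← aeval_mul_comm, mul_assoc]
  have e2 : aeval (b₀ * a₀) Q' * b₀ * a₀ = aeval (b₀ * a₀) (Q' * X) := by
    rw [map_mul, aeval_X, mul_assoc]
  refine ⟨a₀, ha₀, aeval (b₀ * a₀) Q' * b₀, mul_mem (Algebra.adjoin_le
    (Set.singleton_subset_iff.2 (mul_mem hb₀ ha₀)) (aeval_mem_adjoin_singleton _ _)) hb₀,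
    by rw [e1]; exact hQa, by rw [e2]; exact hQb, ?_, ?_⟩
  · rw [e1, redA_aeval, map_mul (redA M), har, hbr, eval₂_of_idem _ _ hQ0 hQ1 h1]
  · rw [e2, redA_aeval, map_mul (redA M), har, hbr, eval₂_of_idem _ _ hQ0 hQ1 h2]

end CfsgLib.BlockStar
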