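import Mathlib.RingTheory.SimpleModule.IsAlgClosed
import Mathlib.RingTheory.HopkinsLevitzki
import Mathlib.RingTheory.Artinian.Ring
import Mathlib.RingTheory.Jacobson.Semiprimary
import Mathlib.RingTheory.IntegralClosure.IsIntegralClosure.Basic
import Mathlib.LinearAlgebra.Matrix.Charpoly.Basic
import Mathlib.LinearAlgebra.Matrix.Charpoly.Coeff
import Mathlib.LinearAlgebra.FiniteDimensional.Lemmas
import Mathlib.Algebra.Polynomial.Div
import Mathlib.LinearAlgebra.Matrix.Basis

/-!
# Idempotents of a finite dimensional algebra and functions additive on them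
-/

set_option autoImplicit false

namespace CfsgLib.BlockStar

open Polynomial

variable {k : Type*} [Field k] {A : Type*} [Ring A] [Algebra k A]

/-- A primitive idempotent. -/
def Prim (y : A) : Prop :=
  y * y = y ∧ y ≠ 0 ∧ ∀ e : A, e * e = e → y * e = e → e * y = e → e = 0 ∨ e = y

/-- Fitting's lemma: a power of `c` is fixed by an idempotent divisible by that power. -/
theorem fitting (k : Type*) [Field k] [Algebra k A] [FiniteDimensional k A] (c : A) :
    ∃ (j : ℕ) (d : A), 0 < j ∧ Commute c d ∧ IsIdempotentElem (c ^ j * d) ∧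
      c ^ j * (c ^ j * d) = c ^ j := by
  classical
  have hint : IsIntegral k c := Algebra.IsIntegral.isIntegral c
  set m := minpoly k c with hm
  have hm0 : m ≠ 0 := minpoly.ne_zero hint
  obtain ⟨m', hmm, hm'⟩ := exists_eq_pow_rootMultiplicity_mul_and_not_dvd m hm0 0
  rw [C_0, sub_zero] at hmm hm'
  set i := m.rootMultiplicity 0 with hi
  set a₀ := m'.coeff 0 with ha
  have ha0 : a₀ ≠ 0 := fun h => hm' (X_dvd_iff.2 h)
  have hdiv : m' = C a₀ + X * m'.divX := by
    conv_lhs => rw [← X_mul_divX_add m', add_comm]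
  set q : A := aeval c (C (-a₀⁻¹) * m'.divX) with hq
  have hcq : Commute c q := Commute.symm (by
    have := (Commute.all (C (-a₀⁻¹) * m'.divX) X).map (aeval c)
    rwa [aeval_X] at this)
  have hz : aeval c (X ^ (i + 1) * m') = 0 := by
    rw [pow_succ', mul_assoc, ← hmm, map_mul, minpoly.aeval, mul_zero]
  have hstep : c ^ (i + 1) = c ^ (i + 1) * (c * q) := by
    rw [hdiv, mul_add, map_add, map_mul, map_mul, map_pow, aeval_X, aeval_C, map_mul, aeval_X,
      ← Algebra.commutes, ← Algebra.smul_def] at hz
    have h1 := congrArg (fun z => a₀⁻¹ • z) hz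
    simp only [smul_add, smul_zero, smul_smul, inv_mul_cancel₀ ha0, one_smul] at h1
    refine (eq_neg_of_add_eq_zero_left h1).trans ?_
    rw [hq, map_mul, aeval_C, ← Algebra.smul_def, neg_smul,
      mul_neg, mul_neg, mul_smul_comm, mul_smul_comm]
  have hiter : ∀ n : ℕ, c ^ (i + 1) * (c * q) ^ n = c ^ (i + 1) := by
    intro n
    induction n with
    | zero => simp
    | succ n ih => rw [pow_succ' (c * q) n, ← mul_assoc, ← hstep, ih]
  refine ⟨i + 1, q ^ (i + 1), Nat.succ_pos _, hcq.pow_right _, ?_, ?_⟩
  · have h := hiter (i + 1)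
    rw [hcq.mul_pow] at h
    unfold IsIdempotentElem
    calc c ^ (i + 1) * q ^ (i + 1) * (c ^ (i + 1) * q ^ (i + 1))
        = c ^ (i + 1) * (c ^ (i + 1) * q ^ (i + 1)) * q ^ (i + 1) := by
          simp only [mul_assoc]
          rw [← mul_assoc (q ^ (i + 1)) (c ^ (i + 1)), ← (hcq.pow_pow (i + 1) (i + 1)).eq]
          simp only [mul_assoc]
      _ = _ := by rw [h]
  · rw [← hcq.mul_pow, hiter]

/-- An element `x` of the corner of a primitive idempotent is nilpotent or invertible there. -/
theorem Prim.nilpotent_or_unit (k : Type*) [Field k] [Algebra k A] [FiniteDimensional k A]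
    {y c : A} (hy : Prim y) (h1 : y * c = c) (h2 : c * y = c) :
    IsNilpotent c ∨ ∃ d, y * d = d ∧ d * y = d ∧ c * d = y ∧ Commute c d := by
  obtain ⟨j, d, hj, hcd, hidem, hfix⟩ := fitting k c
  obtain ⟨i, rfl⟩ : ∃ i, j = i + 1 := ⟨j - 1, by omega⟩
  set w := c ^ (i + 1) * d with hw
  have hcw : Commute (c ^ (i + 1)) d := hcd.pow_left _
  have hyw : y * w = w := by rw [hw, pow_succ', ← mul_assoc y, ← mul_assoc y, h1]
  have hwy : w * y = w := by
    rw [hw, hcw.eq, pow_succ]
    simp only [mul_assoc, h2]
  rcases hy.2.2 w hidem hyw hwy with h | h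
  · exact Or.inl ⟨i + 1, by rw [← hfix, h, mul_zero]⟩
  · refine Or.inr ⟨y * (c ^ i * d) * y, ?_, ?_, ?_, ?_⟩
    · simp only [← mul_assoc, hy.1]
    · simp only [mul_assoc, hy.1]
    · calc c * (y * (c ^ i * d) * y) = c * y * (c ^ i * d) * y := by simp only [mul_assoc]
        _ = c ^ (i + 1) * d * y := by rw [h2, ← mul_assoc c, pow_succ']
        _ = y := by rw [← hw, h, hy.1]
    · have hcy : Commute c y := h2.trans h1.symm
      exact (hcy.mul_right ((Commute.refl c).pow_right i |>.mul_right hcd)).mul_right hcy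

/-- A right invertible element of the corner of a primitive idempotent is not nilpotent. -/
theorem Prim.not_nilpotent {y c d : A} (hy : Prim y) (h2 : c * y = c) (h : c * d = y) :
    ¬ IsNilpotent c := by
  rintro ⟨n, hn⟩
  have key : ∀ m : ℕ, c ^ (m + 1) * d ^ (m + 1) = y := by
    intro m
    induction m with
    | zero => simpa using h
    | succ m ih =>
      rw [pow_succ c (m + 1), pow_succ' d (m + 1), mul_assoc, ← mul_assoc c d, h,
        ← mul_assoc]
      rw [show c ^ (m + 1) * y = c ^ (m + 1) by rw [pow_succ, mul_assoc, h2], ih]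
  rcases n with _ | n
  · rw [pow_zero] at hn
    exact hy.2.1 (by rw [← mul_one y, hn, mul_zero])
  · exact hy.2.1 (by rw [← key n, hn, zero_mul])

/-- If a sum of elements of the corner of a primitive idempotent is the idempotent, one of them is
invertible there. -/
theorem Prim.exists_unit_of_sum (k : Type*) [Field k] [Algebra k A] [FiniteDimensional k A]
    {y : A} (hy : Prim y) {ι : Type*} (s : Finset ι) (c : ι → A)
    (h1 : ∀ i ∈ s, y * c i = c i) (h2 : ∀ i ∈ s, c i * y = c i) (hs : ∑ i ∈ s, c i = y) :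
    ∃ i ∈ s, ∃ d, y * d = d ∧ d * y = d ∧ c i * d = y := by
  classical
  by_contra hcon
  push Not at hcon
  have hnil : ∀ i ∈ s, IsNilpotent (c i) := fun i hi =>
    (hy.nilpotent_or_unit k (h1 i hi) (h2 i hi)).resolve_right fun ⟨d, a, b, e, _⟩ =>
      hcon i hi d a b e
  have key : ∀ t ⊆ s, IsNilpotent (∑ i ∈ t, c i) := by
    intro t
    induction t using Finset.induction_on with
    | empty => intro _; simp
    | @insert a t ha ih =>
      intro ht
      have has := ht (Finset.mem_insert_self a t)
      have hts := ih fun i hi => ht (Finset.mem_insert_of_mem hi)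
      set u := c a with hu
      set v := ∑ i ∈ t, c i with hv
      rw [Finset.sum_insert ha, ← hu, ← hv]
      have hv1 : y * v = v := by
        rw [hv, Finset.mul_sum]
        exact Finset.sum_congr rfl fun i hi => h1 i (ht (Finset.mem_insert_of_mem hi))
      have hv2 : v * y = v := by
        rw [hv, Finset.sum_mul]
        exact Finset.sum_congr rfl fun i hi => h2 i (ht (Finset.mem_insert_of_mem hi))
      refine (hy.nilpotent_or_unit k (by rw [mul_add, h1 a has, hv1])
        (by rw [add_mul, h2 a has, hv2])).resolve_right ?_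
      rintro ⟨w, hw1, hw2, hw, -⟩
      have hsum : u * w + v * w = y := by rw [← add_mul, hw]
      have hsub : ∀ x : A, y * x = x → x * y = x → ∀ z : A, y * z = z → z * y = z →
          IsNilpotent x → IsNilpotent (x * z) := by
        intro x hx1 hx2 z hz1 hz2 hxn
        refine (hy.nilpotent_or_unit k (by rw [← mul_assoc, hx1])
          (by rw [mul_assoc, hz2])).resolve_right ?_
        rintro ⟨d, -, -, hd, -⟩
        exact hy.not_nilpotent hx2 (by rw [← mul_assoc]; exact hd) hxn
      have hn1 := hsub u (h1 a has) (h2 a has) w hw1 hw2 (hnil a has)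
      obtain ⟨n, hn⟩ := hsub v hv1 hv2 w hw1 hw2 hts
      have hcomm : Commute y (v * w) := by
        show y * (v * w) = v * w * y
        rw [← mul_assoc, hv1, mul_assoc, hw2]
      have huw : u * w = y * (1 - v * w) := by
        rw [mul_sub, mul_one, ← mul_assoc, hv1, eq_sub_iff_add_eq, hsum]
      obtain ⟨r, hr⟩ := IsNilpotent.isUnit_one_sub ⟨n, hn⟩
      have hcu : Commute (u * w) (↑r⁻¹ : A) := by
        rw [huw]
        refine Commute.units_inv_right ?_
        rw [hr]
        exact ((Commute.one_right y).sub_right hcomm).mul_left (Commute.refl _)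
      have hnilp := hcu.isNilpotent_mul_right hn1
      rw [huw, ← hr, mul_assoc, Units.mul_inv, mul_one] at hnilp
      obtain ⟨m, hm⟩ := hnilp
      exact hy.not_nilpotent hy.1 hy.1 ⟨m, hm⟩
  have := key s subset_rfl
  rw [hs] at this
  exact hy.not_nilpotent hy.1 hy.1 this

/-- Induction over orthogonal sums of primitive idempotents. -/
theorem idem_induction (k : Type*) [Field k] [Algebra k A] [FiniteDimensional k A]
    {P : A → Prop} (h0 : P 0) (hprim : ∀ y, Prim y → P y)
    (hadd : ∀ a b : A, a * a = a → b * b = b → a * b = 0 → b * a = 0 → P a → P b → P (a + b))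
    (y : A) (hy : y * y = y) : P y := by
  generalize hn : Module.finrank k (LinearMap.range (LinearMap.mulLeft k y)) = n
  induction n using Nat.strong_induction_on generalizing y with
  | _ n ih =>
    by_cases hy0 : y = 0
    · exact hy0 ▸ h0
    by_cases hp : Prim y
    · exact hprim y hp
    obtain ⟨e, he, he1, he2, hne0, hney⟩ : ∃ e : A, e * e = e ∧ y * e = e ∧ e * y = e ∧ e ≠ 0 ∧
        e ≠ y := by
      by_contra hc
      push Not at hc
      exact hp ⟨hy, hy0, fun e a b c => or_iff_not_imp_left.2 fun hne => hc e a b c hne⟩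
    have hlt : ∀ v : A, v * v = v → y * v = v → v * y = v → v ≠ y →
        Module.finrank k (LinearMap.range (LinearMap.mulLeft k v)) < n := by
      intro v hv hv1 hv2 hvy
      rw [← hn]
      refine Submodule.finrank_lt_finrank_of_lt (lt_of_le_of_ne ?_ ?_)
      · rintro _ ⟨x, rfl⟩
        exact ⟨v * x, by simp [← mul_assoc, hv1]⟩
      · intro h
        obtain ⟨x, hx⟩ : y ∈ LinearMap.range (LinearMap.mulLeft k v) := h ▸ ⟨1, by simp⟩
        have hx' : v * x = y := hx
        exact hvy (by rw [← hv2, ← hx', ← mul_assoc, hv])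
    have ha := ih _ (hlt e he he1 he2 hney) e he rfl
    have hb1 : (y - e) * (y - e) = y - e := by
      rw [sub_mul, mul_sub, mul_sub, hy, he, he1, he2]; abel
    have hb := ih _ (hlt (y - e) hb1 (by rw [mul_sub, hy, he1]) (by rw [sub_mul, hy, he2])
      (fun h => hne0 (sub_eq_self.1 h))) (y - e) hb1 rfl
    have h := hadd e (y - e) he hb1 (by rw [mul_sub, he2, he, sub_self])
      (by rw [sub_mul, he1, he, sub_self]) ha hb
    rwa [add_sub_cancel] at h

variable [FiniteDimensional k A]

/-- The quotient by the radical as a product of matrix algebras. -/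
theorem exists_pi (k : Type*) [Field k] [IsAlgClosed k] [Algebra k A] [FiniteDimensional k A] :
    ∃ (n : ℕ) (d : Fin n → ℕ) (_ : ∀ i, NeZero (d i))
      (π : A →ₐ[k] Π i, Matrix (Fin (d i)) (Fin (d i)) k),
      Function.Surjective π ∧ ∀ a, π a = 0 → IsNilpotent a := by
  have : IsArtinianRing A := IsArtinianRing.of_finite k A
  have : IsSemisimpleRing (A ⧸ Ring.jacobson A) := IsSemiprimaryRing.isSemisimpleRing
  have : FiniteDimensional k (A ⧸ Ring.jacobson A) :=
    Module.Finite.of_surjective (Ideal.Quotient.mkₐ k (Ring.jacobson A)).toLinearMap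
      Ideal.Quotient.mk_surjective
  obtain ⟨n, d, hd, ⟨e⟩⟩ :=
    IsSemisimpleRing.exists_algEquiv_pi_matrix_of_isAlgClosed k (A ⧸ Ring.jacobson A)
  refine ⟨n, d, hd, e.toAlgHom.comp (Ideal.Quotient.mkₐ k (Ring.jacobson A)),
    e.surjective.comp Ideal.Quotient.mk_surjective, fun a ha => ?_⟩
  have h1 : Ideal.Quotient.mkₐ k (Ring.jacobson A) a = 0 := e.injective (by simpa using ha)
  have h2 : a ∈ Ring.jacobson A := Ideal.Quotient.eq_zero_iff_mem.1 h1
  obtain ⟨m, hm⟩ := IsSemiprimaryRing.isNilpotent (R := A)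
  refine ⟨m, ?_⟩
  have := Ideal.pow_mem_pow h2 m
  rwa [hm] at this

omit [FiniteDimensional k A] in
theorem eq_zero_of_idem_nilpotent {e : A} (he : e * e = e) (hn : IsNilpotent e) : e = 0 := by
  obtain ⟨n, hn⟩ := hn
  rcases n with _ | n
  · rw [← mul_one e, ← pow_zero e, hn, mul_zero]
  · rwa [(show IsIdempotentElem e from he).pow_succ_eq n] at hn

/-- Lifting one idempotent along a homomorphism. -/
theorem exists_idem_lift_map (k : Type*) [Field k] [Algebra k A] [FiniteDimensional k A]
    {S : Type*} [Ring S] (π : A →+* S) (x : A) (hE : π x * π x = π x) :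
    ∃ e : A, e * e = e ∧ π e = π x := by
  obtain ⟨j, d, hj, hcd, hidem, hfix⟩ := fitting k x
  refine ⟨x ^ j * d, hidem, ?_⟩
  obtain ⟨i, rfl⟩ : ∃ i, j = i + 1 := ⟨j - 1, by omega⟩
  have hpow : π x ^ (i + 1) = π x := (show IsIdempotentElem (π x) from hE).pow_succ_eq i
  have h := congrArg π hfix
  rw [map_mul, map_mul, map_pow, hpow, ← mul_assoc, hE] at h
  rw [map_mul, map_pow, hpow, h]

/-- Conjugate idempotents upstairs from conjugate images. -/
theorem apply_eq_of_image {S : Type*} [Ring S] (π : A →+* S) (hπ : Function.Surjective π)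
    (hker : ∀ a, π a = 0 → IsNilpotent a) (f : A → ℤ)
    (htr : ∀ a b : A, IsIdempotentElem (a * b) → IsIdempotentElem (b * a) → f (a * b) = f (b * a))
    {α β : S} (h1 : IsIdempotentElem (α * β)) (h2 : IsIdempotentElem (β * α)) {e e' : A}
    (he : e * e = e) (he' : e' * e' = e') (hπe : π e = α * β) (hπe' : π e' = β * α) :
    f e = f e' := by
  obtain ⟨a₀, ha₀⟩ := hπ α
  obtain ⟨b₀, hb₀⟩ := hπ β
  set a := e * a₀ * e' with ha
  set b := e' * b₀ * e with hb
  have hπab : π (a * b) = π e := by
    simp only [ha, hb, map_mul, hπe, hπe', ha₀, hb₀]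
    have h3 : ∀ z, α * (β * (α * (β * z))) = α * (β * z) := fun z => by
      simpa only [mul_assoc] using congrArg (· * z) h1.eq
    have h4 : α * (β * (α * β)) = α * β := by rw [← mul_assoc]; exact h1.eq
    simp only [mul_assoc]
    simp only [h4]
  set n := e - a * b with hn
  have hnnil : IsNilpotent n := hker n (by rw [hn, map_sub, hπab, sub_self])
  obtain ⟨r, hr⟩ := hnnil.isUnit_one_sub
  have heab : e * (a * b) = a * b := by
    simp only [ha, hb, ← mul_assoc, he]
  have habe : a * b * e = a * b := by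
    simp only [ha, hb, mul_assoc, he]
  have hab : a * b = e * (r : A) := by
    rw [hr, hn, mul_sub, mul_one, mul_sub, he, heab]; abel
  have hcr : Commute e (r : A) := by
    rw [hr, hn]
    refine (Commute.one_right e).sub_right ((Commute.refl e).sub_right ?_)
    exact heab.trans habe.symm
  have hcc : e * (↑r⁻¹ : A) = (↑r⁻¹ : A) * e := hcr.units_inv_right.eq
  set b' := b * (↑r⁻¹ : A) * e with hb'
  have hab' : a * b' = e := by
    rw [hb', ← mul_assoc, ← mul_assoc, hab, mul_assoc e (r : A), Units.mul_inv, mul_one, he]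
  have hea : e * a = a := by simp only [ha, ← mul_assoc, he]
  have hb'e : b' * e = b' := by simp only [hb', mul_assoc, he]
  have hidem : IsIdempotentElem (b' * a) := by
    show b' * a * (b' * a) = b' * a
    rw [← mul_assoc, mul_assoc b' a b', hab', hb'e]
  have hle1 : e' * (b' * a) = b' * a := by
    simp only [hb', hb, ← mul_assoc, he']
  have hle2 : b' * a * e' = b' * a := by
    simp only [ha, mul_assoc, he']
  have hπn : π n = 0 := by rw [hn, map_sub, hπab, sub_self]
  have hπr : π (↑r⁻¹ : A) = 1 := by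
    have h := congrArg π (Units.mul_inv r)
    rw [map_mul, map_one, hr, map_sub, map_one, hπn, sub_zero, one_mul] at h
    exact h
  have hπba : π (b' * a) = π e' := by
    have hfb : π b * π e = π b := by
      rw [hb, map_mul, map_mul, mul_assoc, ← map_mul π e e, he]
    rw [map_mul, hb', map_mul, map_mul, hπr, mul_one, hfb]
    simp only [ha, hb, map_mul, hπe, hπe', ha₀, hb₀]
    have h3 : ∀ z, β * (α * (β * (α * z))) = β * (α * z) := fun z => by
      simpa only [mul_assoc] using congrArg (· * z) h2.eq
    have h4 : β * (α * (β * α)) = β * α := by rw [← mul_assoc]; exact h2.eq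
    simp only [mul_assoc]
    simp only [h4]
  have heq : b' * a = e' := by
    refine (sub_eq_zero.1 (eq_zero_of_idem_nilpotent ?_ (hker _ ?_))).symm
    · rw [sub_mul, mul_sub, mul_sub, he', hle1, hle2, hidem.eq]; abel
    · rw [map_sub, hπba, sub_self]
  calc f e = f (a * b') := by rw [hab']
    _ = f (b' * a) := htr a b' (hab' ▸ he) hidem
    _ = f e' := by rw [heq]

/-- A function additive on orthogonal idempotents and symmetric is a trace. -/
theorem exists_linear [IsAlgClosed k] (f : A → ℤ)
    (hadd : ∀ a b : A, a * a = a → b * b = b → a * b = 0 → b * a = 0 → f (a + b) = f a + f b)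
    (htr : ∀ a b : A, IsIdempotentElem (a * b) → IsIdempotentElem (b * a) →
      f (a * b) = f (b * a)) :
    ∃ τ : A →ₗ[k] k, (∀ n, IsNilpotent n → τ n = 0) ∧ ∀ e, e * e = e → τ e = (f e : k) := by
  classical
  obtain ⟨n, d, hd, π, hπ, hker⟩ := exists_pi (A := A) k
  let z : ∀ i : Fin n, Fin (d i) := fun i => ⟨0, Nat.pos_of_neZero _⟩
  choose x hx using fun i : Fin n => hπ (Pi.single i (Matrix.single (z i) (z i) (1 : k)))
  have hlift : ∀ i : Fin n, ∃ e : A, e * e = e ∧ π e = Pi.single i (Matrix.single (z i) (z i) (1 : k)) :=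
    fun i => by
      obtain ⟨e, he, hπe⟩ := exists_idem_lift_map k π.toRingHom (x i) (by
        show π (x i) * π (x i) = π (x i)
        rw [hx, ← Pi.single_mul, Matrix.single_mul_single_same, one_mul])
      exact ⟨e, he, hπe.trans (hx i)⟩
  choose e0 he0 hπe0 using hlift
  let τ : A →ₗ[k] k := ∑ i, (f (e0 i) : k) •
    ((Matrix.traceLinearMap (Fin (d i)) k k).comp
      ((LinearMap.proj i).comp π.toLinearMap))
  have hτ : ∀ a, τ a = ∑ i, (f (e0 i) : k) * Matrix.trace (π a i) := fun a => by
    simp [τ]
  refine ⟨τ, fun a ha => ?_, ?_⟩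
  · rw [hτ]
    refine Finset.sum_eq_zero fun i _ => ?_
    have h : IsNilpotent (π a i) :=
      (ha.map π).map (Pi.evalRingHom (fun i => Matrix (Fin (d i)) (Fin (d i)) k) i)
    rw [(Matrix.isNilpotent_trace_of_isNilpotent h).eq_zero, mul_zero]
  intro e he
  refine idem_induction k (P := fun e => τ e = (f e : k)) ?_ ?_ ?_ e he
  · have h := hadd 0 0 (by simp) (by simp) (by simp) (by simp)
    simp only [add_zero] at h
    rw [map_zero, show f 0 = 0 by omega, Int.cast_zero]
  · intro y hy
    set E := π y with hE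
    have hEi : E * E = E := by rw [hE, ← map_mul, hy.1]
    have hE0 : E ≠ 0 := fun h => hy.2.1 (eq_zero_of_idem_nilpotent hy.1 (hker y h))
    obtain ⟨i, hi⟩ : ∃ i, E i ≠ 0 := Function.ne_iff.1 hE0
    have hEii : E i * E i = E i := congrFun hEi i
    obtain ⟨c, hc⟩ : ∃ c, (E i).col c ≠ 0 := by
      by_contra h
      push Not at h
      exact hi (Matrix.ext fun r c => congrFun (h c) r)
    set v : Fin (d i) → k := (E i).col c with hv
    have hEv : Matrix.mulVec (E i) v = v := by
      funext r
      exact congrFun (congrFun hEii r) c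
    obtain ⟨r, hr⟩ := Function.ne_iff.1 hc
    set w : Fin (d i) → k := (v r)⁻¹ • Matrix.vecMul (Pi.single r 1) (E i) with hw
    have hwE : Matrix.vecMul w (E i) = w := by
      rw [hw, Matrix.smul_vecMul, Matrix.vecMul_vecMul, hEii]
    have hwv : dotProduct w v = 1 := by
      rw [hw, smul_dotProduct, ← Matrix.dotProduct_mulVec, hEv, single_dotProduct, one_mul,
        smul_eq_mul, inv_mul_cancel₀ hr]
    let α : Π i, Matrix (Fin (d i)) (Fin (d i)) k :=
      Pi.single i (Matrix.vecMulVec v (Pi.single (z i) 1))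
    let β : Π i, Matrix (Fin (d i)) (Fin (d i)) k :=
      Pi.single i (Matrix.vecMulVec (Pi.single (z i) 1) w)
    have hαβ : α * β = Pi.single i (Matrix.vecMulVec v w) := by
      simp only [α, β, ← Pi.single_mul, Matrix.vecMulVec_mul_vecMulVec, single_dotProduct,
        Pi.single_eq_same, one_mul, one_smul]
    have hβα : β * α = Pi.single i (Matrix.single (z i) (z i) 1) := by
      simp only [α, β, ← Pi.single_mul, Matrix.vecMulVec_mul_vecMulVec, hwv, one_smul]
      congr 1
      ext a b
      simp [Matrix.vecMulVec_apply, Matrix.single_apply, Pi.single_apply, eq_comm,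
        ite_and]
      split_ifs <;> rfl
    have hP : IsIdempotentElem (α * β) := by
      show α * β * (α * β) = α * β
      rw [hαβ, ← Pi.single_mul, Matrix.vecMulVec_mul_vecMulVec, hwv, one_smul]
    have hQ : IsIdempotentElem (β * α) := by
      show β * α * (β * α) = β * α
      rw [hβα, ← Pi.single_mul, Matrix.single_mul_single_same, one_mul]
    have hEP : E * (α * β) = α * β := by
      rw [hαβ]
      funext j
      rcases eq_or_ne j i with rfl | hj
      · simp [Matrix.mul_vecMulVec, hEv]
      · simp [Pi.single_eq_of_ne hj]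
    have hPE : α * β * E = α * β := by
      rw [hαβ]
      funext j
      rcases eq_or_ne j i with rfl | hj
      · simp [Matrix.vecMulVec_mul, hwE]
      · simp [Pi.single_eq_of_ne hj]
    obtain ⟨x', hx'⟩ := hπ (α * β)
    have hπc : π (y * x' * y) = α * β := by
      rw [map_mul, map_mul, hx', ← hE, hEP, hPE]
    have hπy : π y = α * β := by
      rcases hy.nilpotent_or_unit k (c := y * x' * y) (by simp only [← mul_assoc, hy.1])
        (by simp only [mul_assoc, hy.1]) with h | ⟨d', -, -, hcd, -⟩
      · exfalso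
        have h0 := eq_zero_of_idem_nilpotent hP.eq (hπc ▸ h.map π)
        have : Matrix.vecMulVec v w = 0 := by
          rw [hαβ] at h0
          simpa using congrFun h0 i
        have h1 := congrArg (fun Q => dotProduct w (Matrix.mulVec Q v)) this
        simp [Matrix.vecMulVec_mulVec, hwv] at h1
      · have h0 := congrArg π hcd
        rw [map_mul, hπc, ← hE] at h0
        calc π y = α * β * π d' := h0.symm
          _ = α * β * (α * β * π d') := by rw [← mul_assoc, hP.eq]
          _ = α * β * E := by rw [h0]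
          _ = α * β := hPE
    have hf : f y = f (e0 i) := apply_eq_of_image π.toRingHom hπ hker f htr hP hQ hy.1 (he0 i)
      hπy (by show π (e0 i) = _; rw [hπe0, hβα])
    show τ y = _
    rw [hτ, hπy, hαβ, hf, Finset.sum_eq_single i]
    · rw [Pi.single_eq_same, Matrix.trace_vecMulVec, dotProduct_comm, hwv, mul_one]
    · intro j _ hj
      simp [Pi.single_eq_of_ne hj]
    · simp
  · intro a b ha hb hab hba iha ihb
    rw [map_add, iha, ihb, hadd a b ha hb hab hba, Int.cast_add]

/-- A symmetric additive function invariant under `p` automorphisms is divisible by `p` on a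
relative trace. -/
theorem dvd_of_relTrace [IsAlgClosed k] {p : ℕ} [CharP k p] {ι : Type*} [Fintype ι]
    (hι : Fintype.card ι = p) (σ : ι → A ≃ₐ[k] A) (f : A → ℤ)
    (hadd : ∀ a b : A, a * a = a → b * b = b → a * b = 0 → b * a = 0 → f (a + b) = f a + f b)
    (htr : ∀ a b : A, IsIdempotentElem (a * b) → IsIdempotentElem (b * a) →
      f (a * b) = f (b * a))
    (hσ : ∀ i, ∀ e : A, e * e = e → f (σ i e) = f e)
    {y a : A} (hy : y * y = y) (ha : y = ∑ i, σ i a) : (p : ℤ) ∣ f y := by
  classical
  obtain ⟨τ, hτn, hτe⟩ := exists_linear (k := k) f hadd htr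
  obtain ⟨n, d, hd, π, hπ, hker⟩ := exists_pi (A := A) k
  let τ' : A →ₗ[k] k := ∑ i, τ.comp (σ i).toLinearMap
  have hτ' : ∀ x, τ' x = ∑ i, τ (σ i x) := fun x => by simp [τ']
  have hp0 : ((p : ℕ) : k) = 0 := CharP.cast_eq_zero k p
  have hidem : ∀ e : A, e * e = e → τ' e = 0 := by
    intro e he
    rw [hτ', Finset.sum_congr rfl fun i _ => (hτe (σ i e) (by rw [← map_mul, he])).trans
      (congrArg (fun z : ℤ => (z : k)) (hσ i e he)), Finset.sum_const, Finset.card_univ, hι,
      nsmul_eq_mul, hp0, zero_mul]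
  have hnilp : ∀ e : A, IsNilpotent e → τ' e = 0 := fun e he => by
    rw [hτ']
    exact Finset.sum_eq_zero fun i _ => hτn _ (he.map (σ i))
  have hmem : ∀ s : Π i, Matrix (Fin (d i)) (Fin (d i)) k, ∃ x, π x = s ∧ τ' x = 0 := by
    let W : Submodule k (Π i, Matrix (Fin (d i)) (Fin (d i)) k) :=
      (LinearMap.ker τ').map π.toLinearMap
    suffices h : ∀ s, s ∈ W from fun s => by
      obtain ⟨x, hx, hxs⟩ := h s
      exact ⟨x, hxs, hx⟩
    intro s
    rw [← Finset.univ_sum_single s]
    refine Submodule.sum_mem _ fun i _ => ?_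
    rw [Matrix.matrix_eq_sum_single (s i)]
    have hs : ∀ M : Matrix (Fin (d i)) (Fin (d i)) k,
        Pi.single i M = LinearMap.single k (fun i => Matrix (Fin (d i)) (Fin (d i)) k) i M :=
      fun M => rfl
    rw [hs, map_sum]
    refine Submodule.sum_mem _ fun r _ => ?_
    rw [map_sum]
    refine Submodule.sum_mem _ fun c _ => ?_
    rw [show Matrix.single r c (s i r c) = (s i r c) • Matrix.single r c (1 : k) by
      simp [Matrix.smul_single], map_smul]
    refine Submodule.smul_mem _ _ ?_
    rw [← hs]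
    obtain ⟨x, hx⟩ := hπ (Pi.single i (Matrix.single r c (1 : k)))
    rcases eq_or_ne r c with rfl | hrc
    · obtain ⟨e, he, hπe⟩ := exists_idem_lift_map k π.toRingHom x (by
        show π x * π x = π x
        rw [hx, ← Pi.single_mul, Matrix.single_mul_single_same, one_mul])
      exact ⟨e, hidem e he, hπe.trans hx⟩
    · refine ⟨x, hnilp x ?_, hx⟩
      have h2 : π (x * x) = 0 := by
        rw [map_mul, hx, ← Pi.single_mul, Matrix.single_mul_single_of_ne _ _ _ _ hrc.symm,
          Pi.single_zero]
      obtain ⟨m, hm⟩ := hker _ h2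
      exact ⟨2 * m, by rw [pow_mul, sq, hm]⟩
  have hall : ∀ x, τ' x = 0 := by
    intro x
    obtain ⟨x', hx', hτx'⟩ := hmem (π x)
    have h0 : τ' (x - x') = 0 := hnilp _ (hker _ (by rw [map_sub, hx', sub_self]))
    rwa [map_sub, hτx', sub_zero] at h0
  rw [← CharP.intCast_eq_zero_iff k p, ← hτe y hy, ha, map_sum, ← hτ' a, hall]

end CfsgLib.BlockStar
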