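import Cfsg.Agent.Lib.BlockStar.Def
import Cfsg.Agent.Lib.BlockStar.IdemAlg

/-!
# Primitive idempotents of fixed subalgebras with nonzero Brauer image

`NilPair p U R` describes a subgroup `U ⊔ R` which is the direct product of the `p`-group `U` and
the `p'`-group `R`. A primitive idempotent of the subalgebra fixed by such a group, with nonzero
image at `U`, determines a pair on `U` and through it one pair on each subgroup of `U`.
-/

set_option autoImplicit false

namespace CfsgLib.BlockStar

open Cfsg CfsgLib.Blocks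
open CfsgLib.Blocks.Pairs
open scoped Classical

universe u v

variable {G : Type u} [Group G] [Finite G] {p : ℕ}

/-- `U` is a `p`-group, `R` a `p'`-group, and they commute. -/
structure NilPair (p : ℕ) (U R : Subgroup G) : Prop where
  pgroup : IsPGroup p U
  coprime : (Nat.card R).Coprime p
  comm : R ≤ Subgroup.centralizer (U : Set G)

theorem NilPair.comm' {U R : Subgroup G} (h : NilPair p U R) {u r : G} (hu : u ∈ U) (hr : r ∈ R) :
    Commute u r :=
  Subgroup.mem_centralizer_iff.1 (h.comm hr) u hu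

theorem NilPair.mono {U U' R : Subgroup G} (h : NilPair p U R) (hU : U' ≤ U) : NilPair p U' R :=
  ⟨h.pgroup.to_le hU, h.coprime, h.comm.trans (Subgroup.centralizer_le hU)⟩

theorem NilPair.exists_mul {U R : Subgroup G} (h : NilPair p U R) {x : G} (hx : x ∈ U ⊔ R) :
    ∃ u ∈ U, ∃ r ∈ R, x = u * r := by
  have hN : R ≤ Subgroup.normalizer (U : Set G) :=
    h.comm.trans (Subgroup.centralizer_le_normalizer _)
  rw [← SetLike.mem_coe, Subgroup.coe_mul_of_right_le_normalizer_left U R hN] at hx
  obtain ⟨u, hu, r, hr, rfl⟩ := hx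
  exact ⟨u, hu, r, hr, rfl⟩

variable [Fact p.Prime]

theorem NilPair.pp_mul {U R : Subgroup G} (h : NilPair p U R) {u r : G} (hu : u ∈ U) (hr : r ∈ R) :
    pp p (u * r) = u := by
  refine pp_eq ⟨r, rfl, h.comm' hu hr, ?_, fun hd => ?_⟩
  · obtain ⟨k, hk⟩ := IsPGroup.iff_orderOf.1 h.pgroup ⟨u, hu⟩
    exact ⟨k, by rw [← Subgroup.orderOf_coe] at hk; exact hk⟩
  · have h1 : orderOf r ∣ Nat.card R := by
      have := orderOf_dvd_natCard (⟨r, hr⟩ : R)
      rwa [← Subgroup.orderOf_coe] at this
    exact (Nat.Prime.coprime_iff_not_dvd Fact.out).1 h.coprime.symm (hd.trans h1)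

section FixAlg

variable {F : Type v} [Field F] {U R : Subgroup G}

omit [Fact p.Prime] in
theorem mem_fixAlg_sup (h : NilPair p U R) {a : MonoidAlgebra F G} (hU : ConjFixed U a)
    (hR : ConjFixed R a) : a ∈ fixAlg F (U ⊔ R) := by
  rw [mem_fixAlg]
  intro x hx y
  obtain ⟨u, hu, r, hr, rfl⟩ := h.exists_mul hx
  rw [show u * r * y * (u * r)⁻¹ = u * (r * y * r⁻¹) * u⁻¹ by group, hU u hu, hR r hr]

omit [Fact p.Prime] in
theorem fixed_left {a : MonoidAlgebra F G} (ha : a ∈ fixAlg F (U ⊔ R)) : ConjFixed U a :=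
  (mem_fixAlg.1 ha).mono le_sup_left

omit [Fact p.Prime] in
theorem fixed_right {a : MonoidAlgebra F G} (ha : a ∈ fixAlg F (U ⊔ R)) : ConjFixed R a :=
  (mem_fixAlg.1 ha).mono le_sup_right

omit [Fact p.Prime] in
theorem suppIn_one_sub_mul {H : Subgroup G} {a b : MonoidAlgebra F G} (ha : SuppIn H a)
    (hb : SuppIn H b) : SuppIn H (a * (1 - b)) :=
  ha.mul fun x hx => by
    have h1 : x ≠ 1 := fun h => hx (h ▸ H.one_mem)
    simp [MonoidAlgebra.one_def, Finsupp.single_eq_of_ne h1, hb x hx]

omit [Fact p.Prime] in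
theorem cj_eq_self {u : G} {a : MonoidAlgebra F G} (ha : ConjFixed U a) (hu : u ∈ U) :
    cj u a = a := by
  rw [cj_eq_conjA]
  exact conjA_eq_self_iff.2 fun y => ha u hu y

/-- The relative trace from `T` to `U`. -/
noncomputable def rtr (T U : Subgroup G) (a : MonoidAlgebra F G) : MonoidAlgebra F G :=
  letI := Fintype.ofFinite (U ⧸ T.subgroupOf U)
  ∑ q : U ⧸ T.subgroupOf U, cj ((q.out : U) : G) a

omit [Fact p.Prime] in
theorem cj_eq_of_coset {T : Subgroup G} {a : MonoidAlgebra F G} (ha : ConjFixed T a) {x y : U}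
    (h : (x : U ⧸ T.subgroupOf U) = y) : cj (x : G) a = cj (y : G) a := by
  have h1 := QuotientGroup.eq.1 h
  rw [Subgroup.mem_subgroupOf] at h1
  conv_rhs => rw [show (y : G) = (x : G) * ((x⁻¹ * y : U) : G) by push_cast; group, ← cj_cj,
    cj_eq_self ha h1]

omit [Fact p.Prime] in
theorem rtr_eq {T : Subgroup G} {a : MonoidAlgebra F G} (ha : ConjFixed T a) {ι : Type*}
    [Fintype ι] (r : ι → U)
    (hr : Function.Bijective fun i => (r i : U ⧸ T.subgroupOf U)) :
    rtr T U a = ∑ i, cj (r i : G) a := by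
  letI := Fintype.ofFinite (U ⧸ T.subgroupOf U)
  refine (Fintype.sum_bijective _ hr _ _ fun i => ?_).symm
  exact cj_eq_of_coset ha (QuotientGroup.out_eq' _).symm

omit [Fact p.Prime] in
theorem rtr_fixed_left {T : Subgroup G} {a : MonoidAlgebra F G} (ha : ConjFixed T a) :
    ConjFixed U (rtr T U a) := by
  refine conjFixed_iff.2 fun u hu => ?_
  rw [← cj_eq_conjA]
  letI := Fintype.ofFinite (U ⧸ T.subgroupOf U)
  have h2 := rtr_eq ha (fun q : U ⧸ T.subgroupOf U => (⟨u, hu⟩ : U) * q.out) (by
    convert MulAction.bijective (β := U ⧸ T.subgroupOf U) (⟨u, hu⟩ : U) using 1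
    funext q
    conv_rhs => rw [← QuotientGroup.out_eq' q, MulAction.Quotient.smul_mk]
    rfl)
  conv_rhs => rw [h2]
  rw [rtr, map_sum]
  simp [cj_cj]

omit [Fact p.Prime] in
theorem rtr_fixed_right {T : Subgroup G} (h : R ≤ Subgroup.centralizer (U : Set G))
    {a : MonoidAlgebra F G} (ha : ConjFixed R a) : ConjFixed R (rtr T U a) := by
  refine conjFixed_iff.2 fun r hr => ?_
  rw [← cj_eq_conjA, rtr, map_sum]
  refine Finset.sum_congr rfl fun q _ => ?_
  rw [cj_cj, ← Subgroup.mem_centralizer_iff.1 (h hr) _ q.out.2, ← cj_cj, cj_eq_self ha hr]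

variable [CharP F p]

/-- The image at `Q` of a trace from the normalizer of `Q`, for an element vanishing at all
strictly larger subgroups. -/
theorem trunc_rtr_normalizer {Q : Subgroup G} (hU : IsPGroup p U) (hQU : Q ≤ U)
    {π : MonoidAlgebra F G} (hfix : ConjFixed (U ⊓ Subgroup.normalizer (Q : Set G)) π)
    (hsupp : SuppIn (Subgroup.centralizer (Q : Set G)) π)
    (hvan : ∀ S : Subgroup G, Q < S → S ≤ U ⊓ Subgroup.normalizer (Q : Set G) → trunc S π = 0) :
    trunc Q (rtr (U ⊓ Subgroup.normalizer (Q : Set G)) U π) = π := by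
  set T := U ⊓ Subgroup.normalizer (Q : Set G) with hT
  letI := Fintype.ofFinite (U ⧸ T.subgroupOf U)
  ext x
  rw [coeff_trunc]
  by_cases hx : x ∈ Subgroup.centralizer (Q : Set G)
  swap
  · rw [if_neg hx, hsupp x hx]
  rw [if_pos hx, rtr, MonoidAlgebra.coeff_sum, Finsupp.finsetSum_apply]
  letI : MulAction Q (U ⧸ T.subgroupOf U) := MulAction.compHom _ (Subgroup.inclusion hQU)
  have hsm : ∀ (v : Q) (q : U ⧸ T.subgroupOf U),
      v • q = ((Subgroup.inclusion hQU v * q.out : U) : U ⧸ T.subgroupOf U) := fun v q => by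
    conv_lhs => rw [← QuotientGroup.out_eq' q]
    rfl
  have hinv : ∀ (v : Q) (q : U ⧸ T.subgroupOf U),
      (cj (((v • q).out : U) : G) π).coeff x = (cj ((q.out : U) : G) π).coeff x := by
    intro v q
    rw [cj_eq_of_coset hfix (y := Subgroup.inclusion hQU v * q.out)
      ((QuotientGroup.out_eq' _).trans (hsm v q)), Subgroup.coe_mul, ← cj_cj, coeff_cj]
    congr 2
    rw [Subgroup.coe_inclusion, mul_assoc, ← Subgroup.mem_centralizer_iff.1 hx v v.2,
      inv_mul_cancel_left]
  rw [sum_eq_sum_fixed (hU.to_le hQU) _ hinv,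
    Finset.sum_eq_single ((1 : U) : U ⧸ T.subgroupOf U)]
  · rw [cj_eq_of_coset hfix (y := (1 : U)) (QuotientGroup.out_eq' _), OneMemClass.coe_one, cj_one]
  · intro q hq hne
    by_contra hne0
    apply hne
    set w : G := ((q.out : U) : G) with hw
    rw [coeff_cj] at hne0
    have hxc : w⁻¹ * x * w ∈ Subgroup.centralizer (Q : Set G) := by
      by_contra hc
      exact hne0 (hsupp _ hc)
    have hconjT : ∀ v ∈ Q, w⁻¹ * v * w ∈ T := by
      intro v hv
      have h1 := (Finset.mem_filter.1 hq).2 ⟨v, hv⟩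
      rw [hsm] at h1
      have h2 := QuotientGroup.eq.1 (h1.trans (QuotientGroup.out_eq' q).symm).symm
      rw [Subgroup.mem_subgroupOf] at h2
      simpa [hw, mul_assoc] using h2
    have hQT : Q ≤ T := le_inf hQU Subgroup.le_normalizer
    set S := Q ⊔ conjSub w⁻¹ Q with hS
    have hST : S ≤ T := sup_le hQT fun y hy => by
      rw [mem_conjSub, inv_inv] at hy
      have := hconjT _ hy
      rwa [show w⁻¹ * (w * y * w⁻¹) * w = y by group] at this
    have hSc : w⁻¹ * x * w ∈ Subgroup.centralizer (S : Set G) := by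
      rw [Subgroup.mem_centralizer_iff]
      intro y hy
      have hle : S ≤ Subgroup.centralizer ({w⁻¹ * x * w} : Set G) := sup_le
        (fun y hy => Subgroup.mem_centralizer_singleton_iff.2
          (Subgroup.mem_centralizer_iff.1 hxc y hy))
        (fun y hy => by
          rw [mem_conjSub, inv_inv] at hy
          rw [Subgroup.mem_centralizer_singleton_iff]
          calc y * (w⁻¹ * x * w) = w⁻¹ * ((w * y * w⁻¹) * x) * w := by group
            _ = w⁻¹ * (x * (w * y * w⁻¹)) * w := by rw [Subgroup.mem_centralizer_iff.1 hx _ hy]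
            _ = _ := by group)
      exact Subgroup.mem_centralizer_singleton_iff.1 (hle hy)
    have hSQ : conjSub w⁻¹ Q ≤ Q := by
      by_contra hc
      have hlt : Q < S := lt_of_le_of_ne le_sup_left fun he => hc (le_sup_right.trans_eq he.symm)
      have := congrArg (fun a : MonoidAlgebra F G => a.coeff (w⁻¹ * x * w)) (hvan S hlt hST)
      simp only [coeff_trunc, if_pos hSc] at this
      exact hne0 this
    have hcard : Nat.card (conjSub w⁻¹ Q) = Nat.card Q :=
      (Nat.card_congr
        (Subgroup.equivMapOfInjective Q (MulAut.conj w⁻¹).toMonoidHom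
          (MulAut.conj w⁻¹).injective).toEquiv).symm
    have hconj : conjSub w⁻¹ Q = Q := Subgroup.eq_of_le_of_card_ge hSQ hcard.ge
    have hwN := Subgroup.inv_mem _ (mem_normalizer_of_conjSub_eq hconj)
    rw [inv_inv] at hwN
    have hwT : w ∈ T := Subgroup.mem_inf.2 ⟨q.out.2, hwN⟩
    rw [← QuotientGroup.out_eq' q]
    refine QuotientGroup.eq.2 (Subgroup.mem_subgroupOf.2 ?_)
    rw [Subgroup.coe_mul, InvMemClass.coe_inv, OneMemClass.coe_one, mul_one]
    exact T.inv_mem hwT
  · intro h
    refine absurd (Finset.mem_filter.2 ⟨Finset.mem_univ _, fun v => ?_⟩) h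
    rw [show v • ((1 : U) : U ⧸ T.subgroupOf U) =
      ((Subgroup.inclusion hQU v * 1 : U) : U ⧸ T.subgroupOf U) from rfl]
    exact QuotientGroup.eq.2 (Subgroup.mem_subgroupOf.2 (by
      simpa using T.inv_mem (le_inf hQU Subgroup.le_normalizer v.2 : (v : G) ∈ T)))

/-- The Brauer map on a fixed subalgebra. -/
noncomputable def truncHom {Q : Subgroup G} (hQ : IsPGroup p Q) {K : Subgroup G} (hQK : Q ≤ K) :
    fixAlg F K →+* MonoidAlgebra F G where
  toFun a := trunc Q (a : MonoidAlgebra F G)
  map_one' := trunc_one Q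
  map_mul' a b := trunc_mul hQ ((mem_fixAlg.1 a.2).mono hQK) ((mem_fixAlg.1 b.2).mono hQK)
  map_zero' := trunc_zero Q
  map_add' a b := trunc_add Q _ _

theorem truncHom_apply {Q : Subgroup G} (hQ : IsPGroup p Q) {K : Subgroup G} (hQK : Q ≤ K)
    (a : fixAlg F K) : truncHom (F := F) hQ hQK a = trunc Q (a : MonoidAlgebra F G) := rfl

/-- An element of the corner of a local primitive idempotent with zero image at `U` is
nilpotent. -/
theorem isNilpotent_of_trunc_eq_zero (hn : NilPair p U R) {y c : fixAlg F (U ⊔ R)} (hy : Prim y)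
    (hl : trunc U (y : MonoidAlgebra F G) ≠ 0) (h1 : y * c = c) (h2 : c * y = c)
    (hc : trunc U (c : MonoidAlgebra F G) = 0) : IsNilpotent c := by
  haveI := finiteDimensional_monoidAlgebra (F := F) (G := G)
  refine (hy.nilpotent_or_unit F h1 h2).resolve_right ?_
  rintro ⟨d, -, -, hd, -⟩
  apply hl
  rw [← truncHom_apply hn.pgroup le_sup_left y, ← hd, map_mul, truncHom_apply,
    truncHom_apply, hc, zero_mul]

/-- The pair on `U` determined by a local primitive idempotent. -/
theorem exists_local_pair (hn : NilPair p U R) {y : fixAlg F (U ⊔ R)} (hy : Prim y)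
    (hl : trunc U (y : MonoidAlgebra F G) ≠ 0) :
    ∃ f, IsPair p U f ∧ trunc U (y : MonoidAlgebra F G) * f = trunc U (y : MonoidAlgebra F G) := by
  haveI := finiteDimensional_monoidAlgebra (F := F) (G := G)
  set ty := trunc U (y : MonoidAlgebra F G) with hty
  have hyy : ty * ty = ty := by
    rw [hty, ← truncHom_apply hn.pgroup le_sup_left y, ← map_mul, hy.1]
  obtain ⟨f, hf, hne⟩ : ∃ f ∈ blks (F := F) (Subgroup.centralizer (U : Set G)), ty * f ≠ 0 := by
    by_contra hc
    push Not at hc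
    apply hl
    rw [← mul_one ty, ← sum_blks (F := F) (Subgroup.centralizer (U : Set G)), Finset.mul_sum]
    exact Finset.sum_eq_zero hc
  rw [mem_blks] at hf
  refine ⟨f, ⟨hn.pgroup, hf⟩, ?_⟩
  have hfU : ConjFixed U f := suppIn_centralizer_conjFixed hf.mem.supp
  set b : fixAlg F (U ⊔ R) := ⟨f, mem_fixAlg_sup hn hfU (hf.mem.fixed.mono hn.comm)⟩ with hb
  have hcomm : ty * f = f * ty := mul_comm_of_suppIn (trunc_suppIn _ _) hf.mem.fixed
  have hbf : trunc U (b : MonoidAlgebra F G) = f := trunc_eq_self hf.mem.supp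
  have hw : truncHom (F := F) hn.pgroup le_sup_left (y * b * y) = ty * f := by
    simp only [map_mul, truncHom_apply, hbf, ← hty]
    rw [mul_assoc, ← hcomm, ← mul_assoc, hyy]
  rcases hy.nilpotent_or_unit F (c := y * b * y) (by simp only [← mul_assoc, hy.1])
    (by simp only [mul_assoc, hy.1]) with h | ⟨d, -, -, hd, -⟩
  · exfalso
    apply hne
    have h' := h.map (truncHom (F := F) hn.pgroup le_sup_left)
    rw [hw] at h'
    refine eq_zero_of_idem_nilpotent ?_ h'
    rw [mul_assoc, ← mul_assoc f, ← hcomm, mul_assoc ty f f, hf.idem, ← mul_assoc, hyy]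
  · have h' := congrArg (truncHom (F := F) hn.pgroup le_sup_left) hd
    rw [map_mul, hw, truncHom_apply _ _ y, ← hty] at h'
    calc ty * f = f * ty := hcomm
      _ = f * (ty * f * _) := by rw [h']
      _ = ty := by rw [← mul_assoc, hcomm, ← mul_assoc f f ty, hf.idem, ← hcomm, h']

/-- A local primitive idempotent sees only the pairs below its pair. -/
theorem trunc_mul_below (hn : NilPair p U R) {y : fixAlg F (U ⊔ R)} (hy : Prim y)
    (hl : trunc U (y : MonoidAlgebra F G) ≠ 0) {f : MonoidAlgebra F G} (hf : IsPair p U f)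
    (hyf : trunc U (y : MonoidAlgebra F G) * f = trunc U (y : MonoidAlgebra F G))
    {Q : Subgroup G} {b : MonoidAlgebra F G} (hb : SLE p Q b U f) :
    trunc Q (y : MonoidAlgebra F G) * b = trunc Q (y : MonoidAlgebra F G) := by
  generalize hm : Nat.card U - Nat.card Q = m
  induction m using Nat.strong_induction_on generalizing Q b with
  | _ m ih =>
  have hQU : Q ≤ U := hb.le
  rcases hQU.eq_or_lt with rfl | hlt
  · rw [SLE.unique hf hb (SLE.refl _ _), hyf]
  have hQp : IsPGroup p Q := hn.pgroup.to_le hQU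
  have hTQ := lt_inf_normalizer hn.pgroup hlt
  set T := U ⊓ Subgroup.normalizer (Q : Set G) with hT
  have hTU : T ≤ U := inf_le_left
  have hTN : T ≤ Subgroup.normalizer (Q : Set G) := inf_le_right
  have hbl := (hb.pair_left hf).block
  -- the pair below has normal inclusion into the intermediate ones
  have hns : ∀ S : Subgroup G, Q ≤ S → S ≤ T → ∃ g, NS p Q b S g ∧ SLE p S g U f := by
    intro S hQS hST
    obtain ⟨g, hg⟩ := (existsUnique_sle hf (hST.trans hTU)).1
    obtain ⟨b', hb'⟩ := exists_ns (hg.pair_left hf) hQS (hST.trans hTN)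
    exact ⟨g, by rwa [SLE.unique hf hb (hb'.sle.trans hg)], hg⟩
  have hyU : ConjFixed U (y : MonoidAlgebra F G) := fixed_left y.2
  have hRQ : R ≤ Subgroup.centralizer (Q : Set G) := hn.comm.trans (centralizer_anti hQU)
  set ty := trunc Q (y : MonoidAlgebra F G) with hty
  have hyy : ty * ty = ty := by
    rw [hty, ← truncHom_apply hQp (hQU.trans le_sup_left) y, ← map_mul, hy.1]
  have hcomm : ty * b = b * ty := mul_comm_of_suppIn (trunc_suppIn _ _) hbl.mem.fixed
  set π := ty * (1 - b) with hπ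
  have hπi : π * π = π := by
    have hc : Commute ty (1 - b) := (Commute.one_right ty).sub_right hcomm
    exact (IsIdempotentElem.mul_of_commute hc hyy
      (show IsIdempotentElem b from hbl.idem).one_sub).eq
  obtain ⟨gT, hnT, -⟩ := hns T hTQ.le le_rfl
  have hπT : π ∈ fixAlg F T := mul_mem
    (mem_fixAlg.2 (trunc_conjFixed hTN (hyU.mono hTU)))
    (sub_mem (one_mem _) (mem_fixAlg.2 hnT.fix))
  have hπR : π ∈ fixAlg F R := mul_mem
    (mem_fixAlg.2 (trunc_conjFixed (hRQ.trans (Subgroup.centralizer_le_normalizer _))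
      (fixed_right y.2)))
    (sub_mem (one_mem _) (mem_fixAlg.2 (hbl.mem.fixed.mono hRQ)))
  have hπs : SuppIn (Subgroup.centralizer (Q : Set G)) π :=
    suppIn_one_sub_mul (trunc_suppIn _ _) hbl.mem.supp
  have hvan : ∀ S : Subgroup G, Q < S → S ≤ T → trunc S π = 0 := by
    intro S hQS hST
    obtain ⟨g, hnS, hgU⟩ := hns S hQS.le hST
    have hSp : IsPGroup p S := hn.pgroup.to_le (hST.trans hTU)
    have hlt' := card_lt_of_lt hQS
    have hle' := Subgroup.card_le_of_le (hST.trans hTU)
    have hrec := ih (Nat.card U - Nat.card S) (by omega) hgU rfl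
    have h1 : ConjFixed S (1 - b : MonoidAlgebra F G) :=
      mem_fixAlg.1 (sub_mem (one_mem _) (mem_fixAlg.2 hnS.fix))
    rw [hπ, trunc_mul hSp (trunc_conjFixed (hST.trans hTN) (hyU.mono (hST.trans hTU))) h1,
      trunc_trunc hQS.le, ← hrec]
    have h2 : trunc S (1 - b) = 1 - trunc S b := by
      rw [eq_sub_iff_add_eq, ← trunc_add, sub_add_cancel, trunc_one]
    have hgc : g * trunc S b = trunc S b * g :=
      (mul_comm_of_suppIn (trunc_suppIn _ _) hnS.pairP.block.mem.fixed).symm
    rw [h2, mul_assoc, mul_sub, mul_one, hgc, hnS.br, sub_self, mul_zero]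
  have hTT : trunc T π = 0 := hvan T hTQ le_rfl
  have hUU : trunc U π = 0 := by rw [← trunc_trunc hTU, hTT, trunc_zero]
  have hfix : ConjFixed T π := mem_fixAlg.1 hπT
  -- the trace in the corner
  let s : fixAlg F (U ⊔ R) := ⟨rtr T U π, mem_fixAlg_sup hn (rtr_fixed_left hfix)
    (rtr_fixed_right hn.comm (mem_fixAlg.1 hπR))⟩
  have hc0 : trunc U ((y * s * y : fixAlg F (U ⊔ R)) : MonoidAlgebra F G) = 0 := by
    have hs : trunc U (s : MonoidAlgebra F G) = 0 := by
      show trunc U (rtr T U π) = 0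
      rw [rtr, trunc_sum]
      refine Finset.sum_eq_zero fun q _ => ?_
      have hq := trunc_conjA ((q.out : U) : G) U π
      rw [conjSub_eq_of_mem_normalizer (Subgroup.le_normalizer q.out.2), hUU, conjA_zero] at hq
      rw [cj_eq_conjA, hq]
    rw [← truncHom_apply hn.pgroup le_sup_left, map_mul, map_mul, truncHom_apply _ _ s, hs,
      mul_zero, zero_mul]
  have hnil := isNilpotent_of_trunc_eq_zero hn hy hl (c := y * s * y)
    (by simp only [← mul_assoc, hy.1]) (by simp only [mul_assoc, hy.1]) hc0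
  have h' := hnil.map (truncHom (F := F) hQp (hQU.trans le_sup_left))
  have hsQ : trunc Q (s : MonoidAlgebra F G) = π :=
    trunc_rtr_normalizer hn.pgroup hQU hfix hπs hvan
  have hty1 : ty * π = π := by rw [hπ, ← mul_assoc, hyy]
  have hty2 : π * ty = π := by
    rw [hπ, mul_assoc, sub_mul, one_mul, ← hcomm, mul_sub, hyy, ← mul_assoc, hyy, mul_sub,
      mul_one]
  rw [map_mul, map_mul, truncHom_apply _ _ s, truncHom_apply, hsQ, ← hty, hty1, hty2] at h'
  have h0 := eq_zero_of_idem_nilpotent hπi h'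
  rw [hπ, mul_sub, mul_one, sub_eq_zero] at h0
  exact h0.symm

end FixAlg

end CfsgLib.BlockStar
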