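import Cfsg.Agent.Lib.BlockStar.Local
import Cfsg.Agent.Lib.NilpPerm.Bound
import Cfsg.Agent.Lib.PGroup.BreadthCommutator
import Mathlib.GroupTheory.SchurZassenhaus
import Mathlib.GroupTheory.Sylow

/-!
# Primitive idempotents with zero Brauer image are relative traces

Nilpotent subgroups split as `U ⊔ R`, and a primitive idempotent fixed by `U ⊔ R` with zero image
at `U` is a relative trace from a normal subgroup of index `p` of `U`.
-/

set_option autoImplicit false

namespace CfsgLib.BlockStar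

open Cfsg CfsgLib.Blocks
open CfsgLib.Blocks.Pairs
open scoped Classical

universe u v

variable {G : Type u} [Group G] [Finite G] {p : ℕ} [Fact p.Prime]

/-- A nilpotent subgroup is the product of a `p`-group and a commuting `p'`-group. -/
theorem exists_nilPair (K : Subgroup G) [Group.IsNilpotent K] :
    ∃ U R : Subgroup G, NilPair p U R ∧ U ⊔ R = K := by
  obtain ⟨S⟩ : Nonempty (Sylow p K) := inferInstance
  obtain ⟨n, hn⟩ := IsPGroup.iff_card.1 S.isPGroup'
  have hcop : Nat.Coprime (Nat.card (S : Subgroup K)) (S : Subgroup K).index := by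
    rw [hn]
    exact Nat.Coprime.pow_left _
      ((Nat.Prime.coprime_iff_not_dvd Fact.out).2 S.not_dvd_index)
  obtain ⟨C, hC⟩ := Subgroup.exists_right_complement'_of_coprime hcop
  have hCcard : (Nat.card C).Coprime p := by
    have h1 : (S : Subgroup K).index = Nat.card C := hC.symm.index_eq_card
    exact ((Nat.Prime.coprime_iff_not_dvd Fact.out).2 (h1 ▸ S.not_dvd_index)).symm
  refine ⟨(S : Subgroup K).map K.subtype, C.map K.subtype,
    ⟨S.isPGroup'.map _, ?_, ?_⟩, ?_⟩
  · rwa [Subgroup.card_map_of_injective K.subtype_injective]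
  · rintro _ ⟨c, hc, rfl⟩
    rw [Subgroup.mem_centralizer_iff]
    rintro _ ⟨s, hs, rfl⟩
    have hco : Nat.Coprime (orderOf s) (orderOf c) := by
      refine Nat.Coprime.coprime_dvd_left (Subgroup.orderOf_dvd_natCard _ hs) ?_
      rw [hn]
      exact Nat.Coprime.pow_left _
        (hCcard.coprime_dvd_left (Subgroup.orderOf_dvd_natCard _ hc)).symm
    exact ((CfsgLib.NilpPerm.commute_of_coprime_order hco).map K.subtype).eq
  · rw [← Subgroup.map_sup, hC.sup_eq_top, ← MonoidHom.range_eq_map, Subgroup.range_subtype]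

theorem NilPair.card_sup {U R : Subgroup G} (h : NilPair p U R) :
    Nat.card (U ⊔ R : Subgroup G) = Nat.card U * Nat.card R := by
  rw [← Nat.card_prod]
  symm
  refine Nat.card_eq_of_bijective (fun x : U × R =>
    (⟨(x.1 : G) * x.2, Subgroup.mul_mem_sup x.1.2 x.2.2⟩ : (U ⊔ R : Subgroup G))) ⟨?_, ?_⟩
  · rintro ⟨u, r⟩ ⟨u', r'⟩ he
    have h1 : (u : G) * r = u' * r' := congrArg Subtype.val he
    have h2 := congrArg (pp p) h1
    rw [h.pp_mul u.2 r.2, h.pp_mul u'.2 r'.2] at h2
    rw [h2] at h1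
    exact Prod.ext (Subtype.ext h2) (Subtype.ext (mul_left_cancel h1))
  · rintro ⟨x, hx⟩
    obtain ⟨u, hu, r, hr, rfl⟩ := h.exists_mul hx
    exact ⟨(⟨u, hu⟩, ⟨r, hr⟩), rfl⟩

/-- A proper subgroup of a `p`-group lies in a normal one of index `p`. -/
theorem exists_normal_index_p {U H : Subgroup G} (hU : IsPGroup p U) (hHU : H ≤ U) (hne : H ≠ U) :
    ∃ V : Subgroup G, H ≤ V ∧ V ≤ U ∧ (V.subgroupOf U).Normal ∧ (V.subgroupOf U).index = p := by
  have hne' : H.subgroupOf U ≠ ⊤ := fun h =>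
    hne (le_antisymm hHU (Subgroup.subgroupOf_eq_top.1 h))
  obtain ⟨D, hD, hi, hcomm, -⟩ := CfsgLib.PGroup.Breadth.exists_index_prime_ge hU hne'
  refine ⟨D.map U.subtype, fun x hx => ⟨⟨x, hHU hx⟩, hD hx, rfl⟩, Subgroup.map_subtype_le D, ?_⟩
  have h2 : (D.map U.subtype).subgroupOf U = D :=
    Subgroup.comap_map_eq_self_of_injective U.subtype_injective D
  rw [h2]
  exact ⟨CfsgLib.PGroup.Breadth.normal_of_commutator_le hcomm, hi⟩

variable {F : Type v} [Field F] {U R : Subgroup G}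

/-- The sum of a conjugation orbit under `K`. -/
noncomputable def orbK (F : Type v) [Field F] (K : Subgroup G) (x : G) : MonoidAlgebra F G :=
  ofFun fun g => if ∃ k ∈ K, g = k * x * k⁻¹ then 1 else 0

omit [Fact p.Prime] in
theorem coeff_orbK (K : Subgroup G) (x g : G) :
    (orbK F K x).coeff g = if ∃ k ∈ K, g = k * x * k⁻¹ then 1 else 0 := by
  simp [orbK]

omit [Fact p.Prime] in
theorem orbK_mem (K : Subgroup G) (x : G) : orbK F K x ∈ fixAlg F K := by
  rw [mem_fixAlg]
  intro w hw g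
  simp only [coeff_orbK]
  refine if_congr ⟨fun ⟨k, hk, he⟩ => ⟨w⁻¹ * k, K.mul_mem (K.inv_mem hw) hk, ?_⟩,
    fun ⟨k, hk, he⟩ => ⟨w * k, K.mul_mem hw hk, ?_⟩⟩ rfl rfl
  · calc g = w⁻¹ * (w * g * w⁻¹) * w := by group
      _ = _ := by rw [he]; group
  · rw [he]; group

/-- An orbit sum is the trace of an orbit sum under a smaller group containing the stabilizer. -/
theorem orbK_eq_rtr (h : NilPair p U R) {V : Subgroup G} (hVU : V ≤ U) {x : G}
    (hst : ∀ u ∈ U, u * x * u⁻¹ = x → u ∈ V) :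
    orbK F (U ⊔ R) x = rtr V U (orbK F (V ⊔ R) x) := by
  letI := Fintype.ofFinite (U ⧸ V.subgroupOf U)
  ext g
  rw [rtr, MonoidAlgebra.coeff_sum, Finsupp.finsetSum_apply]
  simp only [coeff_cj, coeff_orbK]
  by_cases hg : ∃ k ∈ U ⊔ R, g = k * x * k⁻¹
  · rw [if_pos hg]
    obtain ⟨k, hk, rfl⟩ := hg
    obtain ⟨u, hu, r, hr, rfl⟩ := h.exists_mul hk
    rw [Finset.sum_eq_single ((⟨u, hu⟩ : U) : U ⧸ V.subgroupOf U)]
    · obtain ⟨v, hv⟩ := QuotientGroup.mk_out_eq_mul (V.subgroupOf U) (⟨u, hu⟩ : U)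
      rw [if_pos]
      have hvV : ((v : U) : G) ∈ V := Subgroup.mem_subgroupOf.1 v.2
      refine ⟨((v : U) : G)⁻¹ * r, Subgroup.mul_mem_sup (V.inv_mem hvV) hr, ?_⟩
      rw [hv, Subgroup.coe_mul]
      group
    · intro q _ hne
      rw [if_neg]
      rintro ⟨k, hk, he⟩
      apply hne
      obtain ⟨v, hv, r', hr', rfl⟩ := (h.mono hVU).exists_mul hk
      set w : G := ((q.out : U) : G) with hw
      have hwU : w ∈ U := q.out.2
      set a := v⁻¹ * w⁻¹ * u with ha
      have haU : a ∈ U := U.mul_mem (U.mul_mem (U.inv_mem (hVU hv)) (U.inv_mem hwU)) hu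
      have hbR : r'⁻¹ * r ∈ R := R.mul_mem (R.inv_mem hr') hr
      have hc : r'⁻¹ * a = a * r'⁻¹ := (h.comm' haU (R.inv_mem hr')).symm.eq
      have hfix : Commute (a * (r'⁻¹ * r)) x := by
        rw [commute_iff_eq]
        have h1 : (v * r')⁻¹ * (w⁻¹ * (u * r * x * (u * r)⁻¹) * w) * (v * r') = x := by
          rw [he]; group
        have h2 : (v * r')⁻¹ * w⁻¹ * (u * r) = a * (r'⁻¹ * r) := by
          rw [← mul_assoc a, ← hc, ha]; group
        calc a * (r'⁻¹ * r) * x
            = (v * r')⁻¹ * (w⁻¹ * (u * r * x * (u * r)⁻¹) * w) * (v * r') *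
              ((v * r')⁻¹ * w⁻¹ * (u * r)) := by rw [← h2]; group
          _ = x * (a * (r'⁻¹ * r)) := by rw [h1, h2]
      obtain ⟨n, hn⟩ := Subgroup.mem_zpowers_iff.1 (pp_mem_zpowers (p := p) (a * (r'⁻¹ * r)))
      have hax : Commute a x := by
        have h3 := hfix.zpow_left n
        rwa [hn, h.pp_mul haU hbR] at h3
      have haV : a ∈ V := hst a haU (by rw [hax.eq, mul_inv_cancel_right])
      have hwu : w⁻¹ * u ∈ V := by
        have := V.mul_mem hv haV
        rwa [ha, mul_assoc v⁻¹, mul_inv_cancel_left] at this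
      rw [← QuotientGroup.out_eq' q]
      exact QuotientGroup.eq.2 (Subgroup.mem_subgroupOf.2 (by simpa [hw] using hwu))
    · exact fun hh => absurd (Finset.mem_univ _) hh
  · rw [if_neg hg]
    refine (Finset.sum_eq_zero fun q _ => if_neg ?_).symm
    rintro ⟨k, hk, he⟩
    refine hg ⟨(q.out : U) * k, Subgroup.mul_mem _ (Subgroup.mem_sup_left q.out.2)
      (sup_le_sup_right hVU R hk), ?_⟩
    calc g = (q.out : U) * (((q.out : U) : G)⁻¹ * g * (q.out : U)) * ((q.out : U) : G)⁻¹ := by group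
      _ = _ := by rw [he]; group

variable [CharP F p]

omit [Fact p.Prime] [CharP F p] in
theorem rtr_mul_left {V : Subgroup G} {b : MonoidAlgebra F G} (hb : ConjFixed U b)
    (a : MonoidAlgebra F G) : b * rtr V U a = rtr V U (b * a) := by
  rw [rtr, rtr, Finset.mul_sum]
  exact Finset.sum_congr rfl fun q _ => by rw [map_mul, cj_eq_self hb q.out.2]

omit [Fact p.Prime] [CharP F p] in
theorem rtr_mul_right {V : Subgroup G} {b : MonoidAlgebra F G} (hb : ConjFixed U b)
    (a : MonoidAlgebra F G) : rtr V U a * b = rtr V U (a * b) := by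
  rw [rtr, rtr, Finset.sum_mul]
  exact Finset.sum_congr rfl fun q _ => by rw [map_mul, cj_eq_self hb q.out.2]

omit [Fact p.Prime] [CharP F p] in
theorem rtr_smul {V : Subgroup G} (c : F) (a : MonoidAlgebra F G) :
    rtr V U (c • a) = c • rtr V U a := by
  rw [rtr, rtr, Finset.smul_sum]
  exact Finset.sum_congr rfl fun q _ => map_smul _ _ _

/-- A primitive idempotent with zero image at `U` is a trace from a subgroup of index `p`. -/
theorem exists_eq_rtr (h : NilPair p U R) {y : fixAlg F (U ⊔ R)} (hy : Prim y)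
    (hl : trunc U (y : MonoidAlgebra F G) = 0) :
    ∃ (V : Subgroup G) (a : MonoidAlgebra F G), V ≤ U ∧ (V.subgroupOf U).Normal ∧
      (V.subgroupOf U).index = p ∧ a ∈ fixAlg F (V ⊔ R) ∧
      (y : MonoidAlgebra F G) = rtr V U a := by
  haveI := finiteDimensional_monoidAlgebra (F := F) (G := G)
  haveI := Fintype.ofFinite G
  suffices key : ∀ (n : ℕ) (z : fixAlg F (U ⊔ R)),
      (Finset.univ.filter fun g => (z : MonoidAlgebra F G).coeff g ≠ 0).card = n →
      trunc U (z : MonoidAlgebra F G) = 0 → ∀ d : fixAlg F (U ⊔ R), y * z * y * d = y →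
      ∃ (V : Subgroup G) (a : MonoidAlgebra F G), V ≤ U ∧ (V.subgroupOf U).Normal ∧
      (V.subgroupOf U).index = p ∧ a ∈ fixAlg F (V ⊔ R) ∧
      (y : MonoidAlgebra F G) = rtr V U a from
    key _ y rfl hl y (by simp only [hy.1])
  intro n
  induction n using Nat.strong_induction_on with
  | _ n ih =>
  intro z hn hz d hd
  by_cases hz0 : z = 0
  · exact absurd (by rw [← hd, hz0, mul_zero, zero_mul, zero_mul]) hy.2.1
  obtain ⟨x, hx⟩ : ∃ x, (z : MonoidAlgebra F G).coeff x ≠ 0 := by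
    by_contra hc
    push Not at hc
    exact hz0 (Subtype.ext (MonoidAlgebra.ext (Finsupp.ext hc)))
  have hxU : x ∉ Subgroup.centralizer (U : Set G) := fun hc => hx (by
    simpa [hc] using congrArg (fun b : MonoidAlgebra F G => b.coeff x) hz)
  obtain ⟨V, hHV, hVU, hVn, hVi⟩ := exists_normal_index_p h.pgroup
    (inf_le_left : U ⊓ Subgroup.centralizer ({x} : Set G) ≤ U) (fun he => hxU (by
      rw [Subgroup.mem_centralizer_iff]
      intro u hu
      rw [← he] at hu
      exact Subgroup.mem_centralizer_singleton_iff.1 hu.2))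
  have hst : ∀ u ∈ U, u * x * u⁻¹ = x → u ∈ V := fun u hu he =>
    hHV ⟨hu, Subgroup.mem_centralizer_singleton_iff.2 (mul_inv_eq_iff_eq_mul.1 he)⟩
  set c := (z : MonoidAlgebra F G).coeff x with hc
  let o : fixAlg F (U ⊔ R) := c • ⟨orbK F (U ⊔ R) x, orbK_mem _ x⟩
  have horb : ∀ g, (∃ k ∈ U ⊔ R, g = k * x * k⁻¹) →
      (z : MonoidAlgebra F G).coeff g = c := by
    rintro g ⟨k, hk, rfl⟩
    exact mem_fixAlg.1 z.2 k hk x
  have hco : ∀ g, ((z - o : fixAlg F (U ⊔ R)) : MonoidAlgebra F G).coeff g =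
      if ∃ k ∈ U ⊔ R, g = k * x * k⁻¹ then 0 else (z : MonoidAlgebra F G).coeff g := by
    intro g
    by_cases hg : ∃ k ∈ U ⊔ R, g = k * x * k⁻¹
    · rw [if_pos hg]
      simp [o, coeff_orbK, hg, horb g hg]
    · rw [if_neg hg]
      simp [o, coeff_orbK, hg]
  set d₀ := d * y with hd₀
  have hd₀y : d₀ * y = d₀ := by rw [hd₀, mul_assoc, hy.1]
  have hsum : ∑ i : Bool, (cond i (y * o * y * d₀) (y * (z - o) * y * d₀)) = y := by
    rw [Fintype.sum_bool, cond_true, cond_false, ← add_mul, ← add_mul, ← mul_add,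
      add_sub_cancel, hd₀, ← mul_assoc, hd, hy.1]
  obtain ⟨i, -, d₁, -, hd₁, hi⟩ := hy.exists_unit_of_sum F Finset.univ
    (fun i => cond i (y * o * y * d₀) (y * (z - o) * y * d₀))
    (fun i _ => by cases i <;> simp only [cond_true, cond_false, ← mul_assoc, hy.1])
    (fun i _ => by cases i <;> simp only [cond_true, cond_false, mul_assoc, hd₀y]) hsum
  cases i with
  | false =>
    simp only [cond_false, mul_assoc (y * (z - o) * y)] at hi
    refine ih _ ?_ (z - o) rfl ?_ _ hi
    · rw [← hn]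
      refine Finset.card_lt_card (Finset.ssubset_iff_of_subset (fun g => ?_) |>.2 ⟨x, ?_, ?_⟩)
      · simp only [Finset.mem_filter, Finset.mem_univ, true_and, hco]
        split_ifs <;> simp
      · simp [← hc, hx]
      · simp only [Finset.mem_filter, Finset.mem_univ, true_and, hco, not_not]
        rw [if_pos ⟨1, Subgroup.one_mem _, by simp⟩]
    · ext g
      rw [coeff_trunc, hco]
      by_cases hgc : g ∈ Subgroup.centralizer (U : Set G)
      · have := congrArg (fun b : MonoidAlgebra F G => b.coeff g) hz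
        simp [hgc] at this
        simp [this]
      · simp [hgc]
  | true =>
    simp only [cond_true, mul_assoc (y * o * y)] at hi
    refine ⟨V, (y : MonoidAlgebra F G) * (c • orbK F (V ⊔ R) x) * y * (d₀ * d₁ : fixAlg F _),
      hVU, hVn, hVi, ?_, ?_⟩
    · have hsub : fixAlg F (U ⊔ R) ≤ fixAlg F (V ⊔ R) := fixAlg_anti (sup_le_sup_right hVU R)
      exact mul_mem (mul_mem (mul_mem (hsub y.2) (Subalgebra.smul_mem _ (orbK_mem _ x) c))
        (hsub y.2)) (hsub (d₀ * d₁).2)
    · rw [← rtr_mul_right (fixed_left (d₀ * d₁).2), ← rtr_mul_right (fixed_left y.2),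
        ← rtr_mul_left (fixed_left y.2), rtr_smul, ← orbK_eq_rtr h hVU hst]
      exact (congrArg Subtype.val hi).symm

/-- Off the subgroup, a trace from a normal subgroup of index `p` has zero image. -/
theorem trunc_rtr_eq_zero {V : Subgroup G} (hn : (V.subgroupOf U).Normal)
    (hi : (V.subgroupOf U).index = p) {a : MonoidAlgebra F G} (ha : ConjFixed V a) {u : G}
    (hu : u ∈ U) (huV : u ∉ V) : trunc (Subgroup.zpowers u) (rtr V U a) = 0 := by
  haveI := hn
  letI := Fintype.ofFinite (U ⧸ V.subgroupOf U)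
  have hp : p.Prime := Fact.out
  set x : U ⧸ V.subgroupOf U := ((⟨u, hu⟩ : U) : U ⧸ V.subgroupOf U) with hx
  have hne : x ≠ 1 := fun h => huV (Subgroup.mem_subgroupOf.1 ((QuotientGroup.eq_one_iff _).1 h))
  have hord : orderOf x = p := by
    rcases (Nat.dvd_prime hp).1 (hi ▸ (Subgroup.index_eq_card (V.subgroupOf U)).symm ▸
      orderOf_dvd_natCard x) with h | h
    · exact absurd (orderOf_eq_one_iff.1 h) hne
    · exact h
  have hb : Function.Bijective fun i : Fin p =>
      (((⟨u, hu⟩ : U) ^ (i : ℕ) : U) : U ⧸ V.subgroupOf U) := by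
    rw [Fintype.bijective_iff_injective_and_card]
    refine ⟨fun i j h => ?_, ?_⟩
    · simp only [QuotientGroup.mk_pow] at h
      exact Fin.ext (pow_injOn_Iio_orderOf (x := x) (Set.mem_Iio.2 (hord.symm ▸ i.is_lt))
        (Set.mem_Iio.2 (hord.symm ▸ j.is_lt)) h)
    · rw [Fintype.card_fin, ← Nat.card_eq_fintype_card, ← Subgroup.index_eq_card, hi]
  rw [rtr_eq ha _ hb]
  ext g
  by_cases hg : g ∈ Subgroup.centralizer (Subgroup.zpowers u : Set G)
  swap
  · simp [hg]
  rw [coeff_trunc, if_pos hg, MonoidAlgebra.coeff_sum, Finsupp.finsetSum_apply]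
  have key : ∀ i : Fin p, (cj (((⟨u, hu⟩ : U) ^ (i : ℕ) : U) : G) a).coeff g = a.coeff g := by
    intro i
    rw [coeff_cj]
    congr 1
    have := Subgroup.mem_centralizer_iff.1 hg (u ^ (i : ℕ))
      (Subgroup.pow_mem _ (Subgroup.mem_zpowers u) _)
    rw [SubmonoidClass.coe_pow, mul_assoc, ← this, inv_mul_cancel_left]
  rw [Finset.sum_congr rfl fun i _ => key i, Finset.sum_const, Finset.card_univ, Fintype.card_fin,
    nsmul_eq_mul, CharP.cast_eq_zero F p, zero_mul]
  simp

end CfsgLib.BlockStar
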