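import Cfsg.Agent.Lib.BlockStar.Fixed
import Mathlib.LinearAlgebra.Trace
import Mathlib.LinearAlgebra.PID
import Mathlib.RepresentationTheory.Basic

/-!
# Values of a class function at an element times an idempotent

For a class function `θ`, an element `h` and an idempotent `y` of the modular group algebra fixed
by `h`, the value `val M θ h y` is the value of `θ` at `h ỹ` for any idempotent lift `ỹ` fixed by
`h`; it only depends on the Brauer image of `y` at the `p`-part of `h`.
-/

set_option autoImplicit false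

namespace CfsgLib.BlockStar

open Cfsg CfsgLib.Blocks Polynomial
open CfsgLib.Blocks.Pairs (trunc trunc_mul trunc_one trunc_add)
open scoped Classical

universe u

variable {G : Type u} [Group G] [Finite G] {M : Ideal AlgInt} [M.IsMaximal]

/-- The linear extension of a function on `G`. -/
noncomputable def lin (θ : G → ℂ) : MonoidAlgebra (locRing M) G →+ ℂ where
  toFun a := haveI := Fintype.ofFinite G; ∑ g, (a.coeff g : ℂ) * θ g
  map_zero' := by simp
  map_add' a b := by simp [add_mul, Finset.sum_add_distrib]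

theorem lin_apply [Fintype G] (θ : G → ℂ) (a : MonoidAlgebra (locRing M) G) :
    lin θ a = ∑ g, (a.coeff g : ℂ) * θ g := by
  simp only [lin, AddMonoidHom.coe_mk, ZeroHom.coe_mk]
  exact Finset.sum_congr (by ext; simp) fun _ _ => rfl

theorem lin_mul_single (θ : G → ℂ) (a : MonoidAlgebra (locRing M) G) (h : G) [Fintype G] :
    lin θ (a * MonoidAlgebra.single h 1) = ∑ k, (a.coeff k : ℂ) * θ (k * h) := by
  rw [lin_apply, ← Equiv.sum_comp (Equiv.mulRight h)]
  exact Finset.sum_congr rfl fun k _ => by simp [coeff_mul_single_group]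

theorem lin_mul_comm {θ : G → ℂ} (hθ : IsClassFunction G θ) (a b : MonoidAlgebra (locRing M) G) :
    lin θ (a * b) = lin θ (b * a) := by
  haveI := Fintype.ofFinite G
  have key : ∀ a b : MonoidAlgebra (locRing M) G,
      lin θ (a * b) = ∑ x, ∑ y, (a.coeff x : ℂ) * (b.coeff y : ℂ) * θ (x * y) := by
    intro a b
    rw [lin_apply]
    simp only [coeff_mul_group, AddSubmonoidClass.coe_finsetSum, MulMemClass.coe_mul,
      Finset.sum_mul]
    rw [Finset.sum_comm]
    refine Finset.sum_congr rfl fun x _ => ?_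
    rw [← Equiv.sum_comp (Equiv.mulLeft x)]
    simp
  rw [key, key, Finset.sum_comm]
  refine Finset.sum_congr rfl fun x _ => Finset.sum_congr rfl fun y _ => ?_
  rw [CfsgLib.Char.IsClassFunction.mul_comm' hθ]
  ring

/-- Moving a factor that commutes with `h`. -/
theorem lin_shift {θ : G → ℂ} (hθ : IsClassFunction G θ) {h : G}
    {a b : MonoidAlgebra (locRing M) G} (hb : b ∈ fixAlg (locRing M) (Subgroup.zpowers h)) :
    lin θ (a * b * MonoidAlgebra.single h 1) = lin θ (b * a * MonoidAlgebra.single h 1) := by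
  rw [mul_assoc a, ← (commute_of_mem_fixAlg hb (Subgroup.mem_zpowers h)).eq, ← mul_assoc,
    lin_mul_comm hθ, ← mul_assoc]

variable {p : ℕ} [Fact p.Prime]

/-- The `p`-part of an element. -/
noncomputable def pp (p : ℕ) [Fact p.Prime] (g : G) : G :=
  (exists_isPPart (Fact.out : p.Prime) g).choose

theorem isPPart_pp (g : G) : IsPPart p g (pp p g) :=
  (exists_isPPart (Fact.out : p.Prime) g).choose_spec

theorem pp_eq {g z : G} (h : IsPPart p g z) : pp p g = z :=
  IsPPart.unique Fact.out (isPPart_pp g) h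

theorem pp_mem_zpowers (g : G) : pp p g ∈ Subgroup.zpowers g :=
  IsPPart.mem_zpowers Fact.out (isPPart_pp g)

theorem zpowers_pp_le (g : G) : Subgroup.zpowers (pp p g) ≤ Subgroup.zpowers g :=
  Subgroup.zpowers_le.2 (pp_mem_zpowers g)

theorem isPGroup_pp (g : G) : IsPGroup p (Subgroup.zpowers (pp p g)) := by
  obtain ⟨_, _, _, ⟨k, hk⟩, _⟩ := isPPart_pp (p := p) g
  exact CfsgLib.Blocks.isPGroup_zpowers hk

theorem pp_conj (g h : G) : pp p (g * h * g⁻¹) = g * pp p h * g⁻¹ :=
  pp_eq (IsPPart.conj (isPPart_pp h) g)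

/-- The Brauer image of the reduction at the `p`-part of `h`. -/
noncomputable def img (p : ℕ) [Fact p.Prime] (h : G) (a : MonoidAlgebra (locRing M) G) :
    MonoidAlgebra (ResField M) G :=
  trunc (Subgroup.zpowers (pp p h)) (redA M a)

theorem img_mul (hM : IsPModular p M) {h : G} {a b : MonoidAlgebra (locRing M) G}
    (ha : a ∈ fixAlg (locRing M) (Subgroup.zpowers h))
    (hb : b ∈ fixAlg (locRing M) (Subgroup.zpowers h)) :
    img p h (a * b) = img p h a * img p h b := by
  haveI := charP_resField (M := M) hM.1 hM.2.2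
  rw [img, map_mul]
  exact trunc_mul (isPGroup_pp h)
    ((mem_fixAlg.1 (redA_mem ha)).mono (zpowers_pp_le h))
    ((mem_fixAlg.1 (redA_mem hb)).mono (zpowers_pp_le h))

@[simp] theorem img_one (h : G) : img (M := M) p h (1 : MonoidAlgebra (locRing M) G) = 1 := by
  simp [img]

theorem img_add (h : G) (a b : MonoidAlgebra (locRing M) G) :
    img p h (a + b) = img p h a + img p h b := by
  simp [img, trunc_add]

theorem img_sub (h : G) (a b : MonoidAlgebra (locRing M) G) :
    img p h (a - b) = img p h a - img p h b := by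
  rw [eq_sub_iff_add_eq, ← img_add, sub_add_cancel]

theorem lin_eq_zero_of_img (hM : IsPModular p M) {θ : G → ℂ} (hθ : IsClassFunction G θ) {h : G}
    {e : MonoidAlgebra (locRing M) G} (he : e ∈ fixAlg (locRing M) (Subgroup.zpowers h))
    (hei : e * e = e) (himg : img p h e = 0) : lin θ (e * MonoidAlgebra.single h 1) = 0 := by
  haveI := Fintype.ofFinite G
  rw [lin_mul_single]
  refine sum_coeff_mul_classFun_eq_zero hM.1 hM.2.2 e hei (isPPart_pp h) (fun k => ?_)
    (fun k hk => ?_) hθ
  · simpa using mem_fixAlg.1 he h⁻¹ (Subgroup.inv_mem _ (Subgroup.mem_zpowers h)) k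
  · have := congrArg (fun a : MonoidAlgebra (ResField M) G => a.coeff k) himg
    simpa [img, CfsgLib.Blocks.mem_centralizer_zpowers_iff.2 hk] using this

/-- Idempotents with the same Brauer image at the `p`-part of `h` have the same value at `h`. -/
theorem lin_eq_of_img (hM : IsPModular p M) {θ : G → ℂ} (hθ : IsClassFunction G θ) {h : G}
    {a a' : MonoidAlgebra (locRing M) G} (ha : a ∈ fixAlg (locRing M) (Subgroup.zpowers h))
    (ha' : a' ∈ fixAlg (locRing M) (Subgroup.zpowers h)) (hai : a * a = a) (hai' : a' * a' = a')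
    (himg : img p h a = img p h a') :
    lin θ (a * MonoidAlgebra.single h 1) = lin θ (a' * MonoidAlgebra.single h 1) := by
  haveI := charP_resField (M := M) hM.1 hM.2.2
  set A := fixAlg (locRing M) (Subgroup.zpowers h) with hA
  set y0 := a * a' + (1 - a) * (1 - a') with hy0
  set y1 := a' * a + (1 - a') * (1 - a) with hy1
  set w := 1 - a - a' + a * a' + a' * a with hw
  have hy0m : y0 ∈ A := add_mem (mul_mem ha ha')
    (mul_mem (sub_mem (one_mem _) ha) (sub_mem (one_mem _) ha'))
  have hy1m : y1 ∈ A := add_mem (mul_mem ha' ha)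
    (mul_mem (sub_mem (one_mem _) ha') (sub_mem (one_mem _) ha))
  have hwm : w ∈ A :=
    add_mem (add_mem (sub_mem (sub_mem (one_mem _) ha) ha') (mul_mem ha ha')) (mul_mem ha' ha)
  have e1 : ∀ z, a * (a * z) = a * z := fun z => by rw [← mul_assoc, hai]
  have e2 : ∀ z, a' * (a' * z) = a' * z := fun z => by rw [← mul_assoc, hai']
  have h01 : y0 * y1 = w := by
    simp only [hy0, hy1, hw, add_mul, mul_add, sub_mul, mul_sub, mul_one, one_mul, mul_assoc,
      hai, hai', e1, e2]
    abel
  have h10 : y1 * y0 = w := by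
    simp only [hy0, hy1, hw, add_mul, mul_add, sub_mul, mul_sub, mul_one, one_mul, mul_assoc,
      hai, hai', e1, e2]
    abel
  have hay : a * y0 = y0 * a' := by
    simp only [hy0, add_mul, mul_add, sub_mul, mul_sub, mul_one, one_mul, mul_assoc,
      hai, hai', e1, e2]
    abel
  have hwa : Commute w a := by
    show w * a = a * w
    simp only [hw, add_mul, mul_add, sub_mul, mul_sub, mul_one, one_mul, mul_assoc, hai, e1]
    abel
  have hwa' : Commute w a' := by
    show w * a' = a' * w
    simp only [hw, add_mul, mul_add, sub_mul, mul_sub, mul_one, one_mul, mul_assoc, hai', e2]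
    abel
  have hwy0 : Commute w y0 :=
    (hwa.mul_right hwa').add_right (((Commute.one_right w).sub_right hwa).mul_right
      ((Commute.one_right w).sub_right hwa'))
  obtain ⟨Q, hQ0, hQ1, hQ⟩ := CfsgLib.RegLift.exists_idempotent_poly (M := M)
    (a := w) (IsIntegral.of_finite _ w)
  set q := aeval w Q with hq
  have hpoly : ∀ P : (locRing M)[X], aeval w P ∈ A := fun P =>
    Algebra.adjoin_le (Set.singleton_subset_iff.2 hwm) (aeval_mem_adjoin_singleton _ w)
  have hcomm : ∀ (P : (locRing M)[X]) {x : MonoidAlgebra (locRing M) G},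
      Commute w x → Commute (aeval w P) x := by
    intro P x hx
    induction P using Polynomial.induction_on' with
    | add P P' hP hP' => rw [map_add]; exact hP.add_left hP'
    | monomial n r =>
      rw [aeval_monomial]
      exact Commute.mul_left (Algebra.commutes r x) (hx.pow_left n)
  have hqw : q = w * aeval w Q.divX := by
    conv_lhs => rw [hq, ← X_mul_divX_add Q]
    rw [coeff_zero_eq_eval_zero, hQ0, map_zero, add_zero, map_mul, aeval_X]
  -- the image of `q` is one
  let φ : A →+* MonoidAlgebra (ResField M) G :=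
    { toFun := fun x => img p h (x : MonoidAlgebra (locRing M) G)
      map_one' := img_one h
      map_mul' := fun x y => img_mul hM x.2 y.2
      map_zero' := by simp [img]
      map_add' := fun x y => img_add h _ _ }
  have hi : img p h a * img p h a = img p h a := by rw [← img_mul hM ha ha, hai]
  have himw : img p h w = 1 := by
    rw [hw, img_add, img_add, img_sub, img_sub, img_one, img_mul hM ha ha', img_mul hM ha' ha,
      ← himg, hi]
    abel
  have himq : img p h q = 1 := by
    have h1 : (aeval (⟨w, hwm⟩ : A) Q : MonoidAlgebra (locRing M) G) = q := by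
      rw [hq, Polynomial.aeval_subalgebra_coe]
    have h2 : φ (aeval (⟨w, hwm⟩ : A) Q) = 1 := by
      rw [aeval_def, Polynomial.hom_eval₂, show φ ⟨w, hwm⟩ = 1 from himw, eval₂_at_one, hQ1,
        map_one]
    rwa [← h1]
  have hsplit : ∀ b : MonoidAlgebra (locRing M) G, b ∈ A → b * b = b → Commute w b →
      lin θ (b * MonoidAlgebra.single h 1) = lin θ (b * q * MonoidAlgebra.single h 1) := by
    intro b hb hbi hwb
    have hqb : Commute q b := hcomm Q hwb
    have hc : b * (1 - q) * (b * (1 - q)) = b * (1 - q) :=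
      IsIdempotentElem.mul_of_commute ((Commute.one_right b).sub_right hqb.symm) hbi
        (show IsIdempotentElem (1 - q) from IsIdempotentElem.one_sub hQ)
    have h0 := lin_eq_zero_of_img hM hθ (mul_mem hb (sub_mem (one_mem _) (hpoly Q))) hc (by
      rw [img_mul hM hb (sub_mem (one_mem _) (hpoly Q)), img_sub, ← hq, himq, img_one, sub_self,
        mul_zero])
    rw [mul_sub, mul_one, sub_mul, map_sub, sub_eq_zero] at h0
    exact h0
  set r := aeval w Q.divX * q with hr
  have hwr : w * r = q := by rw [hr, ← mul_assoc, ← hqw, hQ.eq]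
  have hry : Commute r y0 := (hcomm _ hwy0).mul_left (hcomm _ hwy0)
  rw [hsplit a ha hai hwa, hsplit a' ha' hai' hwa']
  calc lin θ (a * q * MonoidAlgebra.single h 1)
      = lin θ (y0 * (a' * y1 * r) * MonoidAlgebra.single h 1) := by
        rw [← hwr, ← h01]
        simp only [← mul_assoc, hay]
    _ = lin θ (a' * y1 * r * y0 * MonoidAlgebra.single h 1) :=
        lin_shift hθ (mul_mem (mul_mem ha' hy1m) (mul_mem (hpoly _) (hpoly _)))
    _ = lin θ (a' * q * MonoidAlgebra.single h 1) := by
        rw [mul_assoc (a' * y1), hry.eq, ← hwr, ← h10]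
        simp only [← mul_assoc]

/-- The value of `θ` at `h` times an idempotent of the modular group algebra. -/
noncomputable def val (M : Ideal AlgInt) [M.IsMaximal] (θ : G → ℂ) (h : G)
    (y : MonoidAlgebra (ResField M) G) : ℂ :=
  if hex : ∃ a ∈ fixAlg (locRing M) (Subgroup.zpowers h), a * a = a ∧ redA M a = y then
    lin θ (hex.choose * MonoidAlgebra.single h 1)
  else 0

/-- The value is computed by any lift with the same Brauer image. -/
theorem val_eq (hM : IsPModular p M) {θ : G → ℂ} (hθ : IsClassFunction G θ) {h : G}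
    {y : MonoidAlgebra (ResField M) G} (hy : y ∈ fixAlg (ResField M) (Subgroup.zpowers h))
    (hyi : y * y = y) {a : MonoidAlgebra (locRing M) G}
    (ha : a ∈ fixAlg (locRing M) (Subgroup.zpowers h)) (hai : a * a = a)
    (himg : img p h a = trunc (Subgroup.zpowers (pp p h)) y) :
    val M θ h y = lin θ (a * MonoidAlgebra.single h 1) := by
  have hex := exists_idem_lift hy hyi
  rw [val, dif_pos hex]
  obtain ⟨h1, h2, h3⟩ := hex.choose_spec
  exact lin_eq_of_img hM hθ h1 ha h2 hai (by rw [himg, img, h3])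

theorem val_congr (hM : IsPModular p M) {θ : G → ℂ} (hθ : IsClassFunction G θ) {h : G}
    {y y' : MonoidAlgebra (ResField M) G} (hy : y ∈ fixAlg (ResField M) (Subgroup.zpowers h))
    (hyi : y * y = y) (hy' : y' ∈ fixAlg (ResField M) (Subgroup.zpowers h)) (hyi' : y' * y' = y')
    (htr : trunc (Subgroup.zpowers (pp p h)) y = trunc (Subgroup.zpowers (pp p h)) y') :
    val M θ h y = val M θ h y' := by
  obtain ⟨a, ha, hai, har⟩ := exists_idem_lift hy' hyi'
  rw [val_eq hM hθ hy' hyi' ha hai (by rw [img, har]), val_eq hM hθ hy hyi ha hai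
    (by rw [img, har, htr])]

theorem val_zero (θ : G → ℂ) (h : G) (hM : IsPModular p M) (hθ : IsClassFunction G θ) :
    val M θ h (0 : MonoidAlgebra (ResField M) G) = 0 := by
  rw [val_eq hM hθ (zero_mem _) (zero_mul _) (zero_mem _) (zero_mul _)
    (by rw [img, map_zero]), zero_mul, map_zero]

theorem val_one (hM : IsPModular p M) {θ : G → ℂ} (hθ : IsClassFunction G θ) (h : G) :
    val M θ h (1 : MonoidAlgebra (ResField M) G) = θ h := by
  haveI := Fintype.ofFinite G
  rw [val_eq hM hθ (one_mem _) (one_mul _) (one_mem _) (one_mul _) (by rw [img, map_one]),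
    one_mul, lin_apply, Finset.sum_eq_single h]
  · simp
  · intro k _ hk; simp [Finsupp.single_eq_of_ne hk]
  · simp

theorem val_add (hM : IsPModular p M) {θ : G → ℂ} (hθ : IsClassFunction G θ) {h : G}
    {y y' : MonoidAlgebra (ResField M) G} (hy : y ∈ fixAlg (ResField M) (Subgroup.zpowers h))
    (hyi : y * y = y) (hy' : y' ∈ fixAlg (ResField M) (Subgroup.zpowers h)) (hyi' : y' * y' = y')
    (h1 : y * y' = 0) (h2 : y' * y = 0) :
    val M θ h (y + y') = val M θ h y + val M θ h y' := by
  obtain ⟨a, ha, hai, har⟩ := exists_idem_lift hy hyi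
  obtain ⟨b, hb, hbi, hbr, hab, hba⟩ := exists_orth_lift ha hai hy' hyi' (by rw [har, h1])
    (by rw [har, h2])
  have hi : ∀ {R : Type _} [Ring R] (a b : R), a * a = a → b * b = b → a * b = 0 → b * a = 0 →
      (a + b) * (a + b) = a + b := fun a b ha hb hab hba => by
    rw [add_mul, mul_add, mul_add, ha, hb, hab, hba, add_zero, zero_add]
  rw [val_eq hM hθ (add_mem hy hy') (hi y y' hyi hyi' h1 h2) (add_mem ha hb)
      (hi a b hai hbi hab hba) (by rw [img, map_add, har, hbr]),
    val_eq hM hθ hy hyi ha hai (by rw [img, har]), val_eq hM hθ hy' hyi' hb hbi (by rw [img, hbr]),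
    add_mul, map_add]

theorem val_mul_comm (hM : IsPModular p M) {θ : G → ℂ} (hθ : IsClassFunction G θ) {h : G}
    {x y : MonoidAlgebra (ResField M) G} (hx : x ∈ fixAlg (ResField M) (Subgroup.zpowers h))
    (hy : y ∈ fixAlg (ResField M) (Subgroup.zpowers h)) (h1 : IsIdempotentElem (x * y))
    (h2 : IsIdempotentElem (y * x)) : val M θ h (x * y) = val M θ h (y * x) := by
  obtain ⟨a, ha, b, hb, hab, hba, e1, e2⟩ := exists_trace_lift hx hy h1 h2
  rw [val_eq hM hθ (mul_mem hx hy) h1.eq (mul_mem ha hb) hab.eq (by rw [img, e1]),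
    val_eq hM hθ (mul_mem hy hx) h2.eq (mul_mem hb ha) hba.eq (by rw [img, e2])]
  exact lin_shift hθ hb

theorem cj_mem_fixAlg {R : Type*} [CommRing R] {g h : G} {a : MonoidAlgebra R G}
    (ha : a ∈ fixAlg R (Subgroup.zpowers h)) :
    cj g a ∈ fixAlg R (Subgroup.zpowers (g * h * g⁻¹)) := by
  refine mem_fixAlg_zpowers fun x => ?_
  rw [coeff_cj, coeff_cj,
    show g⁻¹ * (g * h * g⁻¹ * x * (g * h * g⁻¹)⁻¹) * g = h * (g⁻¹ * x * g) * h⁻¹ by group]
  exact mem_fixAlg.1 ha h (Subgroup.mem_zpowers h) _

theorem val_conj (hM : IsPModular p M) {θ : G → ℂ} (hθ : IsClassFunction G θ) (g h : G)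
    {y : MonoidAlgebra (ResField M) G} (hy : y ∈ fixAlg (ResField M) (Subgroup.zpowers h))
    (hyi : y * y = y) : val M θ (g * h * g⁻¹) (cj g y) = val M θ h y := by
  haveI := Fintype.ofFinite G
  obtain ⟨a, ha, hai, har⟩ := exists_idem_lift hy hyi
  rw [val_eq hM hθ hy hyi ha hai (by rw [img, har]),
    val_eq hM hθ (cj_mem_fixAlg hy) (by rw [← map_mul, hyi]) (cj_mem_fixAlg ha)
      (by rw [← map_mul, hai]) (by rw [img, redA_cj, har]),
    lin_mul_single, lin_mul_single, ← Equiv.sum_comp (MulAut.conj g).toEquiv]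
  refine Finset.sum_congr rfl fun k _ => ?_
  simp only [MulEquiv.toEquiv_eq_coe, EquivLike.coe_coe, MulAut.conj_apply, coeff_cj]
  rw [show g * k * g⁻¹ * (g * h * g⁻¹) = g * (k * h) * g⁻¹ by group, hθ,
    show g⁻¹ * (g * k * g⁻¹) * g = k by group]

theorem val_blockMul (hM : IsPModular p M) {B : Set (IrrCharacter G)} (hB : IsPBlock M B)
    {χ : IrrCharacter G} (hχ : χ ∈ B) {h : G} {y : MonoidAlgebra (ResField M) G}
    (hy : y ∈ fixAlg (ResField M) (Subgroup.zpowers h)) (hyi : y * y = y) :
    val M (χ : G → ℂ) h (Pairs.ebar hB * y) = val M (χ : G → ℂ) h y := by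
  haveI := Fintype.ofFinite G
  have hθ := CfsgLib.Char.IsIrrCharacter.isClassFunction χ.2
  obtain ⟨a, ha, hai, har⟩ := exists_idem_lift hy hyi
  set E : MonoidAlgebra (locRing M) G := (blockIdemR hB : MonoidAlgebra (locRing M) G) with hE
  have hEc : ∀ x : MonoidAlgebra (locRing M) G, E * x = x * E := fun x =>
    (Subalgebra.mem_center_iff.1 (blockIdemR hB).2 x).symm
  have hEr : redA M E = Pairs.ebar hB := by
    ext g
    rw [coeff_redA, Pairs.coeff_ebar]
    exact congrArg (red M) (Subtype.ext (coe_coeff_blockIdemR hB g))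
  have hEm : E ∈ fixAlg (locRing M) (Subgroup.zpowers h) := by
    rw [mem_fixAlg]
    exact ((mem_center_iff_conjFixed E).1 (blockIdemR hB).2).mono le_top
  have hEi : E * E = E := congrArg Subtype.val (isIdempotentElem_blockIdemR hB).eq
  have hai' : E * a * (E * a) = E * a := by
    rw [← mul_assoc, mul_assoc E a E, ← hEc a, ← mul_assoc, hEi, mul_assoc, hai]
  have hyi' : Pairs.ebar hB * y * (Pairs.ebar hB * y) = Pairs.ebar hB * y := by
    rw [← hEr, ← har, ← map_mul, ← map_mul, hai']
  rw [val_eq hM hθ hy hyi ha hai (by rw [img, har]),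
    val_eq hM hθ (hEr ▸ mul_mem (redA_mem hEm) hy) hyi' (mul_mem hEm ha) hai'
      (by rw [img, map_mul, hEr, har])]
  rw [mul_assoc, lin_apply, lin_apply]
  simp only [coeff_mul_group E, AddSubmonoidClass.coe_finsetSum, MulMemClass.coe_mul,
    Finset.sum_mul]
  rw [Finset.sum_comm]
  have key : ∀ t, ∑ g, ((E.coeff t : ℂ) *
      ((a * MonoidAlgebra.single h 1).coeff (t⁻¹ * g) : ℂ)) * (χ : G → ℂ) g =
      ∑ k, ((a * MonoidAlgebra.single h 1).coeff k : ℂ) *
        (blockCoeff B t * (χ : G → ℂ) (t * k)) := by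
    intro t
    rw [← Equiv.sum_comp (Equiv.mulLeft t)]
    refine Finset.sum_congr rfl fun k _ => ?_
    simp only [Equiv.coe_mulLeft, inv_mul_cancel_left, hE, coe_coeff_blockIdemR]
    ring
  rw [Finset.sum_congr rfl fun t _ => key t, Finset.sum_comm]
  refine Finset.sum_congr rfl fun k _ => ?_
  rw [← Finset.mul_sum, sum_blockCoeff_mul_char_translate hB hχ]

/-- Multiplying an irreducible character by an idempotent gives a character. -/
theorem isCharacter_lin {K : Subgroup G} (χ : IrrCharacter G)
    {a : MonoidAlgebra (locRing M) G} (ha : a ∈ fixAlg (locRing M) K) (hai : a * a = a) :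
    IsCharacter K (fun h : K => lin (χ : G → ℂ) (a * MonoidAlgebra.single (h : G) 1)) := by
  haveI := Fintype.ofFinite G
  obtain ⟨n, ρ, hρ, hχ⟩ := χ.2
  let ι : MonoidAlgebra (locRing M) G →+* MonoidAlgebra ℂ G :=
    MonoidAlgebra.mapRingHom G (locRing M).subtype
  let P : Module.End ℂ (Fin n → ℂ) := ρ.asAlgebraHom (ι a)
  have hPP : P * P = P := by rw [← map_mul, ← map_mul, hai]
  have hcomm : ∀ h ∈ K, ρ h * P = P * ρ h := by
    intro h hh
    have := congrArg (fun x => ρ.asAlgebraHom (ι x)) (commute_of_mem_fixAlg ha hh).eq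
    simpa [ι, P] using this
  let W : Submodule ℂ (Fin n → ℂ) := LinearMap.range P
  have hW : ∀ h ∈ K, ∀ x ∈ W, ρ h x ∈ W := by
    rintro h hh _ ⟨x, rfl⟩
    exact ⟨ρ h x, (congrArg (fun T : Module.End ℂ (Fin n → ℂ) => T x) (hcomm h hh)).symm⟩
  have hfix : ∀ x ∈ W, P x = x := by
    rintro _ ⟨x, rfl⟩
    exact congrArg (fun T : Module.End ℂ (Fin n → ℂ) => T x) hPP
  let σ : Representation ℂ K W :=
    { toFun := fun h => (ρ (h : G)).restrict (hW _ h.2)
      map_one' := by
        refine LinearMap.ext fun x => Subtype.ext ?_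
        simp [LinearMap.restrict_apply]
      map_mul' := fun g h => by
        refine LinearMap.ext fun x => Subtype.ext ?_
        simp [LinearMap.restrict_apply] }
  have hval : ∀ h : K, σ.character h =
      lin (χ : G → ℂ) (a * MonoidAlgebra.single (h : G) 1) := by
    intro h
    have hf : ∀ x, (ρ (h : G) * P) x ∈ W := fun x => hW _ h.2 _ ⟨x, rfl⟩
    have h1 : σ h = (ρ (h : G) * P).restrict (fun x _ => hf x) := by
      refine LinearMap.ext fun x => Subtype.ext ?_
      show ρ (h : G) (x : Fin n → ℂ) = ρ (h : G) (P x)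
      rw [hfix x x.2]
    show LinearMap.trace ℂ W (σ h) = _
    rw [h1, LinearMap.trace_restrict_eq_of_forall_mem W _ hf, hcomm _ h.2]
    rw [show P * ρ (h : G) = ρ.asAlgebraHom (ι (a * MonoidAlgebra.single (h : G) 1)) by
      simp [P, ι]]
    rw [lin_apply, ← hχ]
    set c := a * MonoidAlgebra.single (h : G) (1 : locRing M)
    have hc : ι c = ∑ g, MonoidAlgebra.single g (c.coeff g : ℂ) := by
      ext g
      simp [ι, MonoidAlgebra.coeff_sum, Finsupp.finsetSum_apply, Finsupp.single_apply]
    rw [hc, map_sum, map_sum]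
    exact Finset.sum_congr rfl fun g _ => by simp [Representation.character]
  rw [show (fun h : K => lin (χ : G → ℂ) (a * MonoidAlgebra.single (h : G) 1)) = σ.character from
    funext fun h => (hval h).symm]
  exact CfsgLib.Char.isCharacter_character σ

end CfsgLib.BlockStar
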