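import Cfsg.Agent.Lib.BlockStar.Integral
import Cfsg.Agent.Lib.BlockStar.Section
import Cfsg.Agent.Lib.BlockRank.RankOneMajor

/-!
# Inner products of star constructions when the fusion of the pairs is inner

If the only fusion below `(P, e)` is by `P`, the inner product of `star η χ` and `star η' ψ` is the
average over `P` of `η * conj η'` times the weights `wt χ ψ`.
-/

set_option autoImplicit false

namespace CfsgLib.BlockStar

open Cfsg CfsgLib.Blocks CfsgLib.Blocks.Pairs
open scoped Classical ComplexConjugate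

universe u

variable {G : Type u} [Group G] [Finite G] {M : Ideal AlgInt} [M.IsMaximal] {p : ℕ}
  [Fact p.Prime] {P : Subgroup G} {e : MonoidAlgebra (ResField M) G}
  {B : Set (IrrCharacter G)}

/-- The fusion of the cyclic subgroups below `(P, e)` is inner. -/
def InnerFusion (p : ℕ) (P : Subgroup G) (e : MonoidAlgebra (ResField M) G) : Prop :=
  ∀ u ∈ P, ∀ (g : G) (f : MonoidAlgebra (ResField M) G), SLE p (Subgroup.zpowers u) f P e →
    SLE p (conjSub g (Subgroup.zpowers u)) (conjA g f) P e → ∃ x ∈ P, g * u * g⁻¹ = x * u * x⁻¹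

theorem stable_of_innerFusion (hfus : InnerFusion p P e) {η : G → ℂ}
    (hη : ∀ x ∈ P, ∀ u ∈ P, η (x * u * x⁻¹) = η u) : Stable p P e η := by
  intro u hu g f h1 h2
  obtain ⟨x, hx, he⟩ := hfus u hu g f h1 h2
  rw [he, hη x hx u hu]

/-- The pair at an element of `P`. -/
noncomputable def bel (p : ℕ) (P : Subgroup G) (e : MonoidAlgebra (ResField M) G) (u : G) :
    MonoidAlgebra (ResField M) G :=
  if h : ∃ f, SLE p (Subgroup.zpowers u) f P e then h.choose else 0

theorem bel_spec (hM : IsPModular p M) (he : IsPair p P e) {u : G} (hu : u ∈ P) :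
    SLE p (Subgroup.zpowers u) (bel p P e u) P e := by
  haveI := charP_resField (M := M) hM.1 hM.2.2
  have h := (existsUnique_sle he (Subgroup.zpowers_le.2 hu)).1
  rw [bel, dif_pos h]
  exact h.choose_spec

theorem bel_eq (hM : IsPModular p M) (he : IsPair p P e) {u : G}
    {f : MonoidAlgebra (ResField M) G} (h : SLE p (Subgroup.zpowers u) f P e) :
    bel p P e u = f := by
  haveI := charP_resField (M := M) hM.1 hM.2.2
  exact SLE.unique he (bel_spec hM he (h.le (Subgroup.mem_zpowers u))) h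

/-- The pairing of two class functions on the section of `z`, at a block of its centralizer. -/
noncomputable def secSum (p : ℕ) [Fact p.Prime] (M : Ideal AlgInt) [M.IsMaximal] (χ ψ : G → ℂ)
    (z : G) (b : MonoidAlgebra (ResField M) G) : ℂ :=
  haveI := Fintype.ofFinite G
  ∑ h ∈ Finset.univ.filter (fun h => pp p h = z), val M χ h b * conj (val M ψ h b)

/-- The weight of an element of `P`. -/
noncomputable def wt (p : ℕ) [Fact p.Prime] (M : Ideal AlgInt) [M.IsMaximal] (P : Subgroup G)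
    (e : MonoidAlgebra (ResField M) G) (χ ψ : G → ℂ) (u : G) : ℂ :=
  (Nat.card (P ⊓ Subgroup.centralizer (Subgroup.zpowers u : Set G) : Subgroup G) : ℂ) *
    (Nat.card (Subgroup.centralizer (Subgroup.zpowers u : Set G)) : ℂ)⁻¹ *
      secSum p M χ ψ u (bel p P e u)

theorem mem_blk_fixAlg {h : G} {b : MonoidAlgebra (ResField M) G}
    (hb : b ∈ blks (F := ResField M) (Subgroup.centralizer (Subgroup.zpowers (pp p h) : Set G))) :
    b ∈ fixAlg (ResField M) (Subgroup.zpowers h) ∧ b * b = b := by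
  have hcm : h ∈ Subgroup.centralizer (Subgroup.zpowers (pp p h) : Set G) := by
    rw [CfsgLib.Blocks.mem_centralizer_zpowers_iff]
    obtain ⟨n, hn⟩ := Subgroup.mem_zpowers_iff.1 (pp_mem_zpowers (p := p) h)
    exact hn ▸ (Commute.refl h).zpow_right n
  exact ⟨mem_fixAlg.2 ((mem_blks.1 hb).mem.fixed.mono (Subgroup.zpowers_le.2 hcm)),
    (mem_blks.1 hb).idem⟩

theorem secSum_conj (hM : IsPModular p M) {χ ψ : G → ℂ} (hχ : IsClassFunction G χ)
    (hψ : IsClassFunction G ψ) (g z : G) {b : MonoidAlgebra (ResField M) G}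
    (hb : b ∈ blks (F := ResField M) (Subgroup.centralizer (Subgroup.zpowers z : Set G))) :
    secSum p M χ ψ (g * z * g⁻¹) (conjA g b) = secSum p M χ ψ z b := by
  haveI := Fintype.ofFinite G
  symm
  refine Finset.sum_bij (fun h _ => g * h * g⁻¹) (fun h hh => ?_)
    (fun a _ a' _ h => mul_left_cancel (mul_right_cancel h)) (fun h hh => ?_) (fun h hh => ?_)
  · simp only [Finset.mem_filter, Finset.mem_univ, true_and] at hh ⊢
    rw [pp_conj, hh]
  · refine ⟨g⁻¹ * h * g, ?_, by group⟩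
    simp only [Finset.mem_filter, Finset.mem_univ, true_and] at hh ⊢
    rw [show g⁻¹ * h * g = g⁻¹ * h * g⁻¹⁻¹ by rw [inv_inv], pp_conj, hh]
    group
  · simp only [Finset.mem_filter, Finset.mem_univ, true_and] at hh
    obtain ⟨hm, hi⟩ := mem_blk_fixAlg (p := p) (h := h) (b := b) (by rwa [hh])
    rw [← cj_eq_conjA, val_conj hM hχ g h hm hi, val_conj hM hψ g h hm hi]

/-- Different blocks of a centralizer are orthogonal on the section. -/
theorem sum_val_mul_conj_eq_zero [Fintype G] (hM : IsPModular p M) {χ ψ : G → ℂ}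
    (hχ : IsClassFunction G χ) (hψ : IsClassFunction G ψ) {z : G}
    (hz : ∃ k : ℕ, orderOf z = p ^ k) {b c : MonoidAlgebra (ResField M) G}
    (hb : b ∈ blks (F := ResField M) (Subgroup.centralizer (Subgroup.zpowers z : Set G)))
    (hc : c ∈ blks (F := ResField M) (Subgroup.centralizer (Subgroup.zpowers z : Set G)))
    (hne : b ≠ c) :
    ∑ h ∈ Finset.univ.filter (fun h => pp p h = z),
      val M χ h b * conj (val M ψ h c) = 0 := by
  rw [centralizer_zpowers_eq_singleton, mem_blks] at hb hc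
  set C := Subgroup.centralizer ({z} : Set G) with hC
  obtain ⟨b', hb', rfl⟩ := exists_eIn_eq hb
  obtain ⟨c', hc', rfl⟩ := exists_eIn_eq hc
  haveI := Fintype.ofFinite C
  haveI := Fintype.ofFinite b'
  haveI := Fintype.ofFinite c'
  obtain ⟨k, hk⟩ := hz
  have hcomm : ∀ s : C, Commute z (s : G) := fun s =>
    (Subgroup.mem_centralizer_singleton_iff.mp s.2).symm
  have hdisj : ∀ θ ∈ b', ∀ φ ∈ c', CfsgLib.BlockRank.regPair p (θ : C → ℂ) (φ : C → ℂ) = 0 := by
    intro θ hθ φ hφ
    have hφ' : φ ∉ b' := fun h => hne <| by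
      obtain rfl := CfsgLib.Blocks.IsPBlock.eq_of_mem hb' hc' h hφ
      rfl
    have h := CfsgLib.BlockRank.regClosed_of_isPBlock hM hb' θ hθ φ hφ'
    rw [CfsgLib.BlockRank.classInner_pRegularPart_eq] at h
    have h' := (mul_eq_zero.1 h).resolve_left (inv_ne_zero (Nat.cast_ne_zero.2 Nat.card_pos.ne'))
    exact h'
  refine Eq.trans (Finset.sum_bij'
    (t := CfsgLib.BlockRank.regSet (G := C) p)
    (g := fun s : C => blockPart b' (fun x : C => χ (z * (x : G))) s *
      conj (blockPart c' (fun x : C => ψ (z * (x : G))) s))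
    (fun h _ => if hh : z⁻¹ * h ∈ C then ⟨z⁻¹ * h, hh⟩ else 1)
    (fun s _ => z * (s : G)) ?_ ?_ ?_ ?_ ?_) ?_
  · intro h hh
    simp only [Finset.mem_filter, Finset.mem_univ, true_and] at hh
    obtain ⟨y, hy, hc, -, hreg⟩ := isPPart_pp (p := p) h
    rw [hh] at hy hc
    have hmem : z⁻¹ * h ∈ C := by
      rw [← hy, inv_mul_cancel_left, hC, Subgroup.mem_centralizer_singleton_iff]
      exact hc.eq.symm
    rw [dif_pos hmem, CfsgLib.BlockRank.regSet, Finset.mem_filter]
    refine ⟨Finset.mem_univ _, ?_⟩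
    unfold IsPRegular
    rw [← Subgroup.orderOf_coe]
    show ¬ p ∣ orderOf (z⁻¹ * h)
    rwa [← hy, inv_mul_cancel_left]
  · intro s hs
    simp only [CfsgLib.BlockRank.regSet, Finset.mem_filter, Finset.mem_univ, true_and] at hs ⊢
    refine pp_eq (isPPart_of_commute (hcomm s) hk ?_)
    rw [Subgroup.orderOf_coe]
    exact hs
  · intro h hh
    simp only [Finset.mem_filter, Finset.mem_univ, true_and] at hh
    obtain ⟨y, hy, hc, -, -⟩ := isPPart_pp (p := p) h
    rw [hh] at hy hc
    have hmem : z⁻¹ * h ∈ C := by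
      rw [← hy, inv_mul_cancel_left, hC, Subgroup.mem_centralizer_singleton_iff]
      exact hc.eq.symm
    simp [dif_pos hmem]
  · intro s _
    simp
  · intro h hh
    simp only [Finset.mem_filter, Finset.mem_univ, true_and] at hh
    obtain ⟨y, hy, hc, -, -⟩ := isPPart_pp (p := p) h
    rw [hh] at hy hc
    have hmem : z⁻¹ * h ∈ C := by
      rw [← hy, inv_mul_cancel_left, hC, Subgroup.mem_centralizer_singleton_iff]
      exact hc.eq.symm
    rw [dif_pos hmem]
    have h1 := val_eIn_eq_blockPart hM hχ hC hb' ⟨z⁻¹ * h, hmem⟩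
    have h2 := val_eIn_eq_blockPart hM hψ hC hc' ⟨z⁻¹ * h, hmem⟩
    simp only [mul_inv_cancel_left] at h1 h2
    rw [h1, h2]
  · simp only [CfsgLib.BlockRank.blockPart_apply, map_sum, map_mul, Finset.sum_mul, Finset.mul_sum]
    rw [Finset.sum_comm]
    refine Finset.sum_eq_zero fun φ hφ => ?_
    rw [Finset.sum_comm]
    refine Finset.sum_eq_zero fun θ hθ => ?_
    have h0 := hdisj θ (Set.mem_toFinset.1 hθ) φ (Set.mem_toFinset.1 hφ)
    rw [CfsgLib.BlockRank.regPair] at h0
    calc _ = classInner (fun x : C => χ (z * (x : G))) (θ : C → ℂ) *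
        conj (classInner (fun x : C => ψ (z * (x : G))) (φ : C → ℂ)) *
        ∑ s ∈ CfsgLib.BlockRank.regSet (G := C) p, (θ : C → ℂ) s * conj ((φ : C → ℂ) s) := by
          rw [Finset.mul_sum]
          exact Finset.sum_congr rfl fun s _ => by ring
      _ = 0 := by rw [h0, mul_zero]

/-- The elements moving a pair below `(P, e)`, counted. -/
theorem card_moves_mul [Fintype G] (hM : IsPModular p M) (he : IsPair p P e)
    (hfus : InnerFusion p P e) {z g₀ : G} {b : MonoidAlgebra (ResField M) G}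
    (hb : b ∈ blks (F := ResField M) (Subgroup.centralizer (Subgroup.zpowers z : Set G)))
    (hg₀ : SLE p (conjSub g₀ (Subgroup.zpowers z)) (conjA g₀ b) P e) :
    (Finset.univ.filter fun g : G =>
        SLE p (conjSub g (Subgroup.zpowers z)) (conjA g b) P e).card *
      Nat.card (P ⊓ Subgroup.centralizer (Subgroup.zpowers (g₀ * z * g₀⁻¹) : Set G) : Subgroup G) =
    Nat.card P * Nat.card (Subgroup.centralizer (Subgroup.zpowers z : Set G)) := by
  haveI := charP_resField (M := M) hM.1 hM.2.2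
  set C := Subgroup.centralizer (Subgroup.zpowers z : Set G) with hC
  set u₀ := g₀ * z * g₀⁻¹ with hu₀
  set W := P ⊓ Subgroup.centralizer (Subgroup.zpowers u₀ : Set G) with hW
  set S := Finset.univ.filter fun g : G =>
    SLE p (conjSub g (Subgroup.zpowers z)) (conjA g b) P e with hS
  have hCmem : ∀ c ∈ C, c * z * c⁻¹ = z := fun c hc => by
    rw [hC, CfsgLib.Blocks.mem_centralizer_zpowers_iff] at hc
    rw [hc.eq, mul_inv_cancel_right]
  have hl1 : SLE p (Subgroup.zpowers u₀) (conjA g₀ b) P e := by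
    rwa [← conjSub_zpowers_eq]
  have hu₀P : u₀ ∈ P := hl1.le (Subgroup.mem_zpowers _)
  have hin : ∀ x ∈ P, ∀ c ∈ C, x * g₀ * c ∈ S := by
    intro x hx c hc
    rw [hS, Finset.mem_filter]
    refine ⟨Finset.mem_univ _, ?_⟩
    have h1 := hg₀.conj x
    rw [conjSub_eq_of_mem_normalizer (Subgroup.le_normalizer hx),
      (conjA_eq_self_iff.2 fun y => suppIn_centralizer_conjFixed he.block.mem.supp x hx y :
        conjA x e = e)] at h1
    rw [← conjSub_conjSub, ← conjA_conjA, ← conjSub_conjSub, ← conjA_conjA, conjSub_zpowers_eq c,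
      hCmem c hc, (conjA_eq_self_iff.2 fun y => (mem_blks.1 hb).mem.fixed c hc y : conjA c b = b)]
    exact h1
  have hout : ∀ g ∈ S, ∃ x ∈ P, ∃ c ∈ C, g = x * g₀ * c := by
    intro g hg
    rw [hS, Finset.mem_filter] at hg
    have h2 : SLE p (conjSub (g * g₀⁻¹) (Subgroup.zpowers u₀)) (conjA (g * g₀⁻¹) (conjA g₀ b)) P e := by
      rw [← conjSub_zpowers_eq, conjSub_conjSub, conjA_conjA, inv_mul_cancel_right]
      exact hg.2
    obtain ⟨x, hx, hxe⟩ := hfus u₀ hu₀P _ _ hl1 h2
    refine ⟨x, hx, g₀⁻¹ * x⁻¹ * g, ?_, by group⟩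
    rw [hC, CfsgLib.Blocks.mem_centralizer_zpowers_iff]
    have h3 : (g₀⁻¹ * x⁻¹ * g) * z * (g₀⁻¹ * x⁻¹ * g)⁻¹ = z := by
      calc _ = g₀⁻¹ * x⁻¹ * ((g * g₀⁻¹) * u₀ * (g * g₀⁻¹)⁻¹) * x * g₀ := by rw [hu₀]; group
        _ = g₀⁻¹ * u₀ * g₀ := by rw [hxe]; group
        _ = z := by rw [hu₀]; group
    exact mul_inv_eq_iff_eq_mul.1 h3
  have hWu : ∀ w ∈ W, g₀⁻¹ * w⁻¹ * g₀ ∈ C := by
    intro w hw
    have hw' := (Subgroup.mem_inf.1 hw).2
    rw [CfsgLib.Blocks.mem_centralizer_zpowers_iff] at hw'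
    rw [hC, CfsgLib.Blocks.mem_centralizer_zpowers_iff]
    have h4 : w⁻¹ * u₀ = u₀ * w⁻¹ := (Commute.inv_left hw').eq
    show g₀⁻¹ * w⁻¹ * g₀ * z = z * (g₀⁻¹ * w⁻¹ * g₀)
    calc _ = g₀⁻¹ * (w⁻¹ * u₀) * g₀ := by rw [hu₀]; group
      _ = _ := by rw [h4, hu₀]; group
  let Ψ : P × C → G := fun q => (q.1 : G) * g₀ * (q.2 : G)
  have hmaps : ∀ q : P × C, q ∈ (Finset.univ : Finset (P × C)) → Ψ q ∈ S :=
    fun q _ => hin _ q.1.2 _ q.2.2
  have hcount := Finset.card_eq_sum_card_fiberwise hmaps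
  rw [Finset.card_univ, ← Nat.card_eq_fintype_card, Nat.card_prod] at hcount
  rw [hcount, ← smul_eq_mul, ← Finset.sum_const]
  refine Finset.sum_congr rfl fun g hg => ?_
  obtain ⟨x₀, hx₀, c₀, hc₀, rfl⟩ := hout g hg
  rw [Nat.card_eq_fintype_card, ← Finset.card_univ]
  refine Finset.card_bij (fun w _ => ((⟨x₀ * (w : G), P.mul_mem hx₀ (Subgroup.mem_inf.1 w.2).1⟩ : P),
    (⟨g₀⁻¹ * (w : G)⁻¹ * g₀ * c₀, C.mul_mem (hWu _ w.2) hc₀⟩ : C))) (fun w _ => ?_)
    (fun w _ w' _ h => ?_) (fun q hq => ?_)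
  · simp only [Finset.mem_filter, Finset.mem_univ, true_and, Ψ]
    group
  · exact Subtype.ext (mul_left_cancel (congrArg (fun q : P × C => (q.1 : G)) h))
  · simp only [Finset.mem_filter, Finset.mem_univ, true_and, Ψ] at hq
    obtain ⟨⟨x, hx⟩, ⟨c, hc⟩⟩ := q
    dsimp only at hq
    have hcc : g₀ * (c₀ * c⁻¹) * g₀⁻¹ = x₀⁻¹ * x := by
      calc _ = x₀⁻¹ * (x₀ * g₀ * c₀) * c⁻¹ * g₀⁻¹ := by group
        _ = _ := by rw [← hq]; group
    have hwW : x₀⁻¹ * x ∈ W := by
      refine Subgroup.mem_inf.2 ⟨P.mul_mem (P.inv_mem hx₀) hx, ?_⟩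
      rw [CfsgLib.Blocks.mem_centralizer_zpowers_iff, ← hcc, hu₀]
      have h5 := hCmem _ (C.mul_mem hc₀ (C.inv_mem hc))
      show g₀ * (c₀ * c⁻¹) * g₀⁻¹ * (g₀ * z * g₀⁻¹) = g₀ * z * g₀⁻¹ * (g₀ * (c₀ * c⁻¹) * g₀⁻¹)
      calc _ = g₀ * (c₀ * c⁻¹ * z * (c₀ * c⁻¹)⁻¹) * (c₀ * c⁻¹) * g₀⁻¹ := by group
        _ = _ := by rw [h5]; group
    refine ⟨⟨x₀⁻¹ * x, hwW⟩, Finset.mem_univ _, ?_⟩
    refine Prod.ext (Subtype.ext ?_) (Subtype.ext ?_)
    · simp
    · show g₀⁻¹ * (x₀⁻¹ * x)⁻¹ * g₀ * c₀ = c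
      calc _ = g₀⁻¹ * x⁻¹ * (x₀ * g₀ * c₀) := by group
        _ = c := by rw [← hq]; group

theorem exists_orderOf_pp (h : G) : ∃ k : ℕ, orderOf (pp p h) = p ^ k := by
  obtain ⟨_, _, _, hk, _⟩ := isPPart_pp (p := p) h
  exact hk

/-- **Inner products of star constructions.** -/
theorem classInner_star_star [Fintype G] (hM : IsPModular p M) (hP : IsPair p P e)
    (hfus : InnerFusion p P e) {η η' : G → ℂ} (hst : Stable p P e η) (hst' : Stable p P e η')
    {χ ψ : G → ℂ} (hχ : IsClassFunction G χ) (hψ : IsClassFunction G ψ) :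
    classInner (star p M P e η χ) (star p M P e η' ψ) =
      (Nat.card P : ℂ)⁻¹ * ∑ u : P, η u * conj (η' u) * wt p M P e χ ψ u := by
  haveI := charP_resField (M := M) hM.1 hM.2.2
  have hP0 : (Nat.card P : ℂ) ≠ 0 := Nat.cast_ne_zero.2 Nat.card_pos.ne'
  have hG0 : (Nat.card G : ℂ) ≠ 0 := Nat.cast_ne_zero.2 Nat.card_pos.ne'
  let C : G → Subgroup G := fun z => Subgroup.centralizer (Subgroup.zpowers z : Set G)
  let F : G → MonoidAlgebra (ResField M) G → ℂ := fun z b =>
    pairVal p P e η z b * conj (pairVal p P e η' z b) * secSum p M χ ψ z b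
  let Φ : G → ℂ := fun u => η u * conj (η' u) * wt p M P e χ ψ u
  -- the left side
  have hL : ∑ h : G, star p M P e η χ h * conj (star p M P e η' ψ h) =
      ∑ z ∈ Finset.univ.filter (fun z : G => ∃ k : ℕ, orderOf z = p ^ k),
        ∑ b ∈ blks (F := ResField M) (C z), F z b := by
    rw [← Finset.sum_fiberwise_of_maps_to (g := pp p)
      (t := Finset.univ.filter (fun z : G => ∃ k : ℕ, orderOf z = p ^ k))
      (fun h _ => Finset.mem_filter.2 ⟨Finset.mem_univ _, exists_orderOf_pp h⟩)]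
    refine Finset.sum_congr rfl fun z hz => ?_
    have hzk := (Finset.mem_filter.1 hz).2
    have hexp : ∀ (η₁ θ : G → ℂ), ∀ h ∈ Finset.univ.filter (fun h : G => pp p h = z),
        star p M P e η₁ θ h =
          ∑ b ∈ blks (F := ResField M) (C z), pairVal p P e η₁ z b * val M θ h b := by
      intro η₁ θ h hh
      have := (Finset.mem_filter.1 hh).2
      simp only [star, starAt, this, trunc_one, one_mul, C]
    rw [Finset.sum_congr rfl fun h hh => by
      rw [hexp η χ h hh, hexp η' ψ h hh, map_sum, Finset.sum_mul_sum]]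
    rw [Finset.sum_comm]
    refine Finset.sum_congr rfl fun b hb => ?_
    rw [Finset.sum_comm, Finset.sum_eq_single b]
    · simp only [F, secSum, Finset.mul_sum]
      exact Finset.sum_congr (by ext; simp) fun h _ => by rw [map_mul]; ring
    · intro c hc hne
      calc _ = pairVal p P e η z b * conj (pairVal p P e η' z c) *
            ∑ h ∈ Finset.univ.filter (fun h => pp p h = z), val M χ h b * conj (val M ψ h c) := by
            rw [Finset.mul_sum]
            exact Finset.sum_congr rfl fun h _ => by rw [map_mul]; ring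
        _ = 0 := by rw [sum_val_mul_conj_eq_zero hM hχ hψ hzk hb hc (Ne.symm hne), mul_zero]
    · exact fun h => absurd hb h
  -- the right side
  have hR : ∀ g : G, ∑ u : P, Φ u =
      ∑ z ∈ Finset.univ.filter (fun z : G => ∃ k : ℕ, orderOf z = p ^ k),
        ∑ b ∈ blks (F := ResField M) (C z),
          if SLE p (conjSub g (Subgroup.zpowers z)) (conjA g b) P e then Φ (g * z * g⁻¹) else 0 := by
    intro g
    refine (Finset.sum_of_injOn (fun u : P => g⁻¹ * (u : G) * g) (fun u _ v _ h => ?_)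
      (fun u _ => ?_) (fun z hz hnot => ?_) (fun u _ => ?_))
    · exact Subtype.ext (mul_left_cancel (mul_right_cancel h))
    · simp only [Finset.coe_filter, Finset.mem_univ, true_and, Set.mem_setOf_eq]
      obtain ⟨k, hk⟩ := IsPGroup.iff_orderOf.1 hP.pgroup u
      refine ⟨k, ?_⟩
      rw [← hk, ← Subgroup.orderOf_coe]
      simpa using MulEquiv.orderOf_eq (MulAut.conj g⁻¹) (u : G)
    · refine Finset.sum_eq_zero fun b _ => if_neg fun hh => hnot ?_
      rw [conjSub_zpowers_eq] at hh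
      exact ⟨⟨g * z * g⁻¹, hh.le (Subgroup.mem_zpowers _)⟩, Finset.mem_coe.2 (Finset.mem_univ _),
        by group⟩
    · have hu : g * (g⁻¹ * (u : G) * g) * g⁻¹ = u := by group
      have hbel := bel_spec hM hP u.2
      have hbl : conjA g⁻¹ (bel p P e u) ∈ blks (F := ResField M) (C (g⁻¹ * (u : G) * g)) := by
        have h1 := ((hbel.pair_left hP).conj g⁻¹).block
        rw [conjSub_zpowers_eq, inv_inv] at h1
        exact mem_blks.2 h1
      rw [Finset.sum_eq_single (conjA g⁻¹ (bel p P e u))]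
      · rw [if_pos, hu]
        rw [conjSub_zpowers_eq, hu, conjA_conjA, mul_inv_cancel, conjA_one]
        exact hbel
      · intro c hc hne
        refine if_neg fun hh => hne ?_
        rw [conjSub_zpowers_eq, hu] at hh
        rw [bel_eq hM hP hh, conjA_inv_conjA]
      · exact fun h => absurd hbl h
  -- comparing the terms
  have hterm : ∀ z : G, ∀ b ∈ blks (F := ResField M) (C z),
      ∑ g : G, (if SLE p (conjSub g (Subgroup.zpowers z)) (conjA g b) P e then Φ (g * z * g⁻¹)
        else 0) = (Nat.card P : ℂ) * F z b := by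
    intro z b hb
    rw [← Finset.sum_filter]
    by_cases hex : ∃ g₀ : G, SLE p (conjSub g₀ (Subgroup.zpowers z)) (conjA g₀ b) P e
    swap
    · push Not at hex
      rw [Finset.sum_eq_zero fun g hg => absurd (Finset.mem_filter.1 hg).2 (hex g)]
      simp only [F, pairVal_eq_zero hex, zero_mul, mul_zero]
    obtain ⟨g₀, hg₀⟩ := hex
    set S := Finset.univ.filter fun g : G =>
      SLE p (conjSub g (Subgroup.zpowers z)) (conjA g b) P e with hS
    have hS0 : (S.card : ℂ) ≠ 0 := Nat.cast_ne_zero.2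
      (Finset.card_ne_zero.2 ⟨g₀, Finset.mem_filter.2 ⟨Finset.mem_univ _, hg₀⟩⟩)
    have hC0 : (Nat.card (C z) : ℂ) ≠ 0 := Nat.cast_ne_zero.2 Nat.card_pos.ne'
    have hval : ∀ g ∈ S, Φ (g * z * g⁻¹) = (Nat.card P : ℂ) * F z b * (S.card : ℂ)⁻¹ := by
      intro g hg
      have hg' := (Finset.mem_filter.1 hg).2
      have hcnt := card_moves_mul hM hP hfus hb hg'
      have hbel : bel p P e (g * z * g⁻¹) = conjA g b :=
        bel_eq hM hP (by rwa [← conjSub_zpowers_eq])
      have hcardC : Nat.card (C (g * z * g⁻¹)) = Nat.card (C z) := by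
        simp only [C]
        rw [← conjSub_zpowers_eq, centralizer_conjSub]
        exact Subgroup.card_map_of_injective (MulAut.conj g).injective
      simp only [Φ, F, wt, hbel, secSum_conj hM hχ hψ g z hb, pairVal_eq hst hg', pairVal_eq hst' hg']
      rw [show (Nat.card (Subgroup.centralizer (Subgroup.zpowers (g * z * g⁻¹) : Set G)) : ℂ) =
        (Nat.card (C z) : ℂ) by exact_mod_cast hcardC]
      have hW : (Nat.card (P ⊓ Subgroup.centralizer
          (Subgroup.zpowers (g * z * g⁻¹) : Set G) : Subgroup G) : ℂ) =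
          (Nat.card P : ℂ) * (Nat.card (C z) : ℂ) * (S.card : ℂ)⁻¹ := by
        rw [eq_mul_inv_iff_mul_eq₀ hS0, mul_comm]
        exact_mod_cast hcnt
      rw [hW]
      field_simp
    rw [Finset.sum_congr rfl hval, Finset.sum_const, nsmul_eq_mul]
    field_simp
  have hmain : (Nat.card G : ℂ) * ∑ u : P, Φ u =
      (Nat.card P : ℂ) * ∑ h : G, star p M P e η χ h * conj (star p M P e η' ψ h) := by
    calc (Nat.card G : ℂ) * ∑ u : P, Φ u = ∑ _g : G, ∑ u : P, Φ u := by
          rw [Finset.sum_const, nsmul_eq_mul, Finset.card_univ, Nat.card_eq_fintype_card (α := G)]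
      _ = _ := by
          rw [Finset.sum_congr rfl fun g _ => hR g, Finset.sum_comm, hL, Finset.mul_sum]
          refine Finset.sum_congr rfl fun z _ => ?_
          rw [Finset.sum_comm, Finset.mul_sum]
          exact Finset.sum_congr rfl fun b hb => hterm z b hb
  have hΦ : ∑ x : P, η x * conj (η' x) * wt p M P e χ ψ x = ∑ u : P, Φ u := rfl
  rw [hΦ]
  rw [classInner]
  field_simp
  linear_combination -hmain

theorem val_sum (hM : IsPModular p M) {θ : G → ℂ} (hθ : IsClassFunction G θ) {h : G}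
    (s : Finset (MonoidAlgebra (ResField M) G))
    (hs : ∀ b ∈ s, b ∈ fixAlg (ResField M) (Subgroup.zpowers h) ∧ b * b = b)
    (ho : ∀ b ∈ s, ∀ c ∈ s, b ≠ c → b * c = 0) :
    val M θ h (∑ b ∈ s, b) = ∑ b ∈ s, val M θ h b ∧
      (∑ b ∈ s, b) ∈ fixAlg (ResField M) (Subgroup.zpowers h) ∧
      (∑ b ∈ s, b) * (∑ b ∈ s, b) = ∑ b ∈ s, b := by
  induction s using Finset.induction_on with
  | empty => simp [val_zero θ h hM hθ]
  | @insert a t ha ih =>
    obtain ⟨h1, h2, h3⟩ := ih (fun b hb => hs b (Finset.mem_insert_of_mem hb))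
      fun b hb c hc => ho b (Finset.mem_insert_of_mem hb) c (Finset.mem_insert_of_mem hc)
    obtain ⟨ha1, ha2⟩ := hs a (Finset.mem_insert_self a t)
    have e1 : a * ∑ b ∈ t, b = 0 := by
      rw [Finset.mul_sum]
      exact Finset.sum_eq_zero fun b hb => ho a (Finset.mem_insert_self a t) b
        (Finset.mem_insert_of_mem hb) fun h => ha (h ▸ hb)
    have e2 : (∑ b ∈ t, b) * a = 0 := by
      rw [Finset.sum_mul]
      exact Finset.sum_eq_zero fun b hb => ho b (Finset.mem_insert_of_mem hb) a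
        (Finset.mem_insert_self a t) fun h => ha (h ▸ hb)
    simp only [Finset.sum_insert ha]
    exact ⟨by rw [val_add hM hθ ha1 ha2 h2 h3 e1 e2, h1], add_mem ha1 h2,
      by rw [add_mul, mul_add, mul_add, ha2, h3, e1, e2, add_zero, zero_add]⟩

/-- The trivial twist does nothing. -/
theorem star_one (hM : IsPModular p M) (hB : IsPBlock M B) (hP : PairOf p (ebar hB) P e)
    (hno : NoExt p P e) {χ : IrrCharacter G} (hχ : χ ∈ B) :
    star p M P e (fun _ => 1) (χ : G → ℂ) = (χ : G → ℂ) := by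
  haveI := charP_resField (M := M) hM.1 hM.2.2
  have hθ := CfsgLib.Char.IsIrrCharacter.isClassFunction χ.2
  funext h
  set bs := blks (F := ResField M) (Subgroup.centralizer (Subgroup.zpowers (pp p h) : Set G))
    with hbs
  have hs : ∀ b ∈ bs, b ∈ fixAlg (ResField M) (Subgroup.zpowers h) ∧ b * b = b :=
    fun b hb => mem_blk_fixAlg hb
  conv_rhs => rw [← val_one hM hθ h, ← sum_blks (F := ResField M)
    (Subgroup.centralizer (Subgroup.zpowers (pp p h) : Set G)),
    (val_sum hM hθ bs hs fun b hb c hc hne =>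
      (mem_blks.1 hb).mul_eq_zero (mem_blks.1 hc) hne).1]
  simp only [star, starAt, trunc_one, one_mul]
  refine Finset.sum_congr rfl fun b hb => ?_
  by_cases hp : PairOf p (ebar hB) (Subgroup.zpowers (pp p h)) b
  · obtain ⟨g, hg⟩ := exists_conj_sle hP hno hp
    rw [pairVal_eq (η := fun _ => (1 : ℂ)) (fun _ _ _ _ _ _ => rfl) hg, one_mul]
  · have h0 := val_eq_zero_of_not_pairOf hM hB hχ (h := h) (one_mem _) (one_mul _) hb hp
    rw [trunc_one, one_mul] at h0
    rw [h0, mul_zero]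

/-- The star construction stays inside the block. -/
theorem classInner_star_eq_zero [Fintype G] (hM : IsPModular p M) (hB : IsPBlock M B)
    (hP : PairOf p (ebar hB) P e) {η : G → ℂ} {χ : IrrCharacter G}
    (hχ : χ ∈ B) {ψ : IrrCharacter G} (hψ : ψ ∉ B) :
    classInner (star p M P e η (χ : G → ℂ)) (ψ : G → ℂ) = 0 := by
  haveI := charP_resField (M := M) hM.1 hM.2.2
  obtain ⟨B', hB', hψ'⟩ : ∃ B' : Set (IrrCharacter G), IsPBlock M B' ∧ ψ ∈ B' :=
    ⟨_, ⟨ψ, rfl⟩, mem_blockOf_self ψ⟩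
  have hne : B' ≠ B := fun h => hψ (h ▸ hψ')
  have hθ := CfsgLib.Char.IsIrrCharacter.isClassFunction χ.2
  have hθ' := CfsgLib.Char.IsIrrCharacter.isClassFunction ψ.2
  rw [classInner]
  refine mul_eq_zero_of_right _ ?_
  rw [← Finset.sum_fiberwise Finset.univ (pp p)]
  refine Finset.sum_eq_zero fun z _ => ?_
  set bs := blks (F := ResField M) (Subgroup.centralizer (Subgroup.zpowers z : Set G)) with hbs
  by_cases hzk : ∃ k : ℕ, orderOf z = p ^ k
  swap
  · exact Finset.sum_eq_zero fun h hh =>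
      absurd ((Finset.mem_filter.1 hh).2 ▸ exists_orderOf_pp (p := p) h) hzk
  have hψexp : ∀ h ∈ Finset.univ.filter (fun h : G => pp p h = z),
      (ψ : G → ℂ) h = ∑ b ∈ bs, val M (ψ : G → ℂ) h b := by
    intro h hh
    have hz := (Finset.mem_filter.1 hh).2
    subst hz
    conv_lhs => rw [← val_one hM hθ' h, ← sum_blks (F := ResField M)
      (Subgroup.centralizer (Subgroup.zpowers (pp p h) : Set G)),
      (val_sum hM hθ' bs (fun b hb => mem_blk_fixAlg hb) fun b hb c hc hne =>
        (mem_blks.1 hb).mul_eq_zero (mem_blks.1 hc) hne).1]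
  have hexp : ∀ h ∈ Finset.univ.filter (fun h : G => pp p h = z),
      star p M P e η (χ : G → ℂ) h =
        ∑ b ∈ bs, pairVal p P e η z b * val M (χ : G → ℂ) h b := by
    intro h hh
    have := (Finset.mem_filter.1 hh).2
    simp only [star, starAt, this, trunc_one, one_mul, bs]
  rw [Finset.sum_congr rfl fun h hh => by
    rw [hexp h hh, hψexp h hh, map_sum, Finset.sum_mul_sum]]
  rw [Finset.sum_comm]
  refine Finset.sum_eq_zero fun b hb => ?_
  rw [Finset.sum_comm]
  refine Finset.sum_eq_zero fun c hc => ?_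
  by_cases hbc : b = c
  swap
  · calc _ = pairVal p P e η z b * ∑ h ∈ Finset.univ.filter (fun h => pp p h = z),
          val M (χ : G → ℂ) h b * conj (val M (ψ : G → ℂ) h c) := by
          rw [Finset.mul_sum]
          exact Finset.sum_congr rfl fun h _ => by ring
      _ = 0 := by rw [sum_val_mul_conj_eq_zero hM hθ hθ' hzk hb hc hbc, mul_zero]
  subst hbc
  refine Finset.sum_eq_zero fun h hh => ?_
  have hz := (Finset.mem_filter.1 hh).2
  subst hz
  by_cases hp : PairOf p (ebar hB) (Subgroup.zpowers (pp p h)) b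
  · have hp' : ¬ PairOf p (ebar hB') (Subgroup.zpowers (pp p h)) b := fun h2 =>
      hne (ebar_injective hB' hB ((existsUnique_pairOf hp.pair).unique h2 hp))
    have h0 := val_eq_zero_of_not_pairOf hM hB' hψ' (h := h) (one_mem _) (one_mul _) hb hp'
    rw [trunc_one, one_mul] at h0
    rw [h0, map_zero, mul_zero]
  · have h0 := val_eq_zero_of_not_pairOf hM hB hχ (h := h) (one_mem _) (one_mul _) hb hp
    rw [trunc_one, one_mul] at h0
    rw [h0, mul_zero, zero_mul]

end CfsgLib.BlockStar
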